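import Groth.Agent.Lib.EtShriek24.Sheaf

/-!
# Composition of direct images with proper support
-/

universe u

set_option maxHeartbeats 800000

open CategoryTheory CategoryTheory.Limits AlgebraicGeometry Opposite
open Groth.Agent.EtStalk Groth.Agent.EtSite

namespace Groth.Agent.EtShriek24

section Generic

variable {X : Scheme.{u}}

theorem range_comp' {A B C : Scheme.{u}} (i : A ⟶ B) (p : B ⟶ C) :
    Set.range (i ≫ p) = p '' Set.range i := by
  rw [← Set.range_comp]
  exact congrArg Set.range (funext fun a => Scheme.Hom.comp_apply i p a)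

/-- Monomorphisms of sheaves with the same sections define the same subobject. -/
theorem exists_iso_of_range {A B C : EtCoh.Ab X} (a : A ⟶ C) (b : B ⟶ C) [Mono a] [Mono b]
    (hab : ∀ W x, ∃ y, b.hom.app W y = a.hom.app W x)
    (hba : ∀ W y, ∃ x, a.hom.app W x = b.hom.app W y) : ∃ e : A ≅ B, e.hom ≫ b = a := by
  have hinjb := (EtStalk.mono_iff_app_injective b).1 ‹_›
  have hinja := (EtStalk.mono_iff_app_injective a).1 ‹_›
  choose l hl using hab
  let L : ∀ W, A.obj.obj W ⟶ B.obj.obj W := fun W => AddCommGrpCat.ofHom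
    (AddMonoidHom.mk' (l W) fun x x' => hinjb W (by rw [map_add, hl, hl, hl, map_add]))
  let t : A ⟶ B := ⟨
    { app := L
      naturality := fun W W' g => AddCommGrpCat.ext fun x => hinjb W' (by
        show b.hom.app W' (l W' (A.obj.map g x)) = b.hom.app W' (B.obj.map g (l W x))
        rw [hl, NatTrans.naturality_apply, NatTrans.naturality_apply, hl]) }⟩
  have ht : t ≫ b = a := Sheaf.hom_ext (NatTrans.ext (funext fun W => AddCommGrpCat.ext fun x => hl W x))
  haveI : IsIso ((sheafToPresheaf _ _).map t) := by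
    haveI : ∀ W, IsIso (t.hom.app W) := fun W => (ConcreteCategory.isIso_iff_bijective _).2
      ⟨fun x x' h => hinja W ((hl W x).symm.trans ((congrArg (b.hom.app W) h).trans (hl W x'))),
        fun y => by obtain ⟨x, hx⟩ := hba W y; exact ⟨x, hinjb W ((hl W x).trans hx)⟩⟩
    exact NatIso.isIso_of_isIso_app t.hom
  haveI : IsIso t := isIso_of_reflects_iso t (sheafToPresheaf _ _)
  exact ⟨asIso t, ht⟩

end Generic

variable {X Y Z : Scheme.{u}} (h : X ⟶ Y) (g : Y ⟶ Z)

/-- The comparison of iterated base changes. -/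
noncomputable def bcCompHom (W : Z.Etale) :
    (EtCoh.bc h).obj ((EtCoh.bc g).obj W) ⟶ (EtCoh.bc (h ≫ g)).obj W :=
  (MorphismProperty.Over.pullbackComp (P := EtCoh.etaleMP) (Q := ⊤) h g).inv.app W

theorem pushComp_inv_app (F : EtCoh.Ab X) (W : Z.Etale)
    (x : F.obj.obj (op ((EtCoh.bc (h ≫ g)).obj W))) :
    ((EtCoh.pushComp g h).inv.app F).hom.app (op W) x = F.obj.map (bcCompHom h g W).op x := by
  simp [EtCoh.pushComp, bcCompHom, Functor.sheafPushforwardContinuousComp',
    Functor.sheafPushforwardContinuousComp, Functor.sheafPushforwardContinuousIso]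
  rfl

theorem isIso_bcCompHom (W : Z.Etale) : IsIso (bcCompHom h g W) := by
  exact (((MorphismProperty.Over.pullbackComp (P := EtCoh.etaleMP) (Q := ⊤) h g).app W).isIso_inv)

theorem bcCompHom_fst (W : Z.Etale) :
    (bcCompHom h g W).left ≫ pullback.fst W.hom (h ≫ g) =
      pullback.fst (pullback.snd W.hom g) h ≫ pullback.fst W.hom g := by
  let e := MorphismProperty.Over.pullbackComp (P := EtCoh.etaleMP) (Q := ⊤) h g
  refine (congrArg ((bcCompHom h g W).left ≫ ·)
    (MorphismProperty.Over.pullbackComp_left_fst_fst (P := EtCoh.etaleMP) (Q := ⊤) h g W).symm).trans ?_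
  exact (Category.assoc _ _ _).symm.trans ((congrArg (· ≫ _)
    (congrArg (fun t => t.left) (e.inv_hom_id_app W))).trans (Category.id_comp _))

variable [IsSeparated h] [LocallyOfFiniteType h] [IsSeparated g] [LocallyOfFiniteType g]

omit [IsSeparated h] [IsSeparated g] [LocallyOfFiniteType g] in
/-- The support of a section of `h_!` is the image of the support. -/
theorem sectSupp_sh (F : EtCoh.Ab X) (B : Y.Etale) (s : EtShriek.shriekSubgroup h F B) :
    EtShriek.sectSupp ((shFunctor h).obj F) B s =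
      pullback.fst B.hom h '' EtShriek.sectSupp F _ s.1 := by
  let pr := pullback.fst B.hom h
  obtain ⟨T, i, hi, hr, hp⟩ :=
    (ClSub24.isProperOver_iff_exists pr _).1 ((mem_shriekSubgroup_iff h F B s.1).1 s.2)
  have himg : pr '' EtShriek.sectSupp F _ s.1 = Set.range (i ≫ pr) := by
    rw [← hr]
    exact (range_comp' i pr).symm
  apply subset_antisymm
  · intro y hy
    by_contra hyn
    let A : B.left.Opens := ⟨(pr '' EtShriek.sectSupp F _ s.1)ᶜ, by
      rw [himg]; exact (i ≫ pr).isClosedMap.isClosed_range.isOpen_compl⟩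
    obtain ⟨w, hw⟩ : y ∈ Set.range A.ι := by rw [A.range_ι]; exact hyn
    refine hy (sub B A) (subHom B A) ⟨w, hw⟩ (Subtype.ext (eq_of_agree F fun x => ?_))
    by_contra hx
    have hx' : x ∈ EtShriek.sectSupp F _ (F.obj.map ((EtCoh.bc h).map (subHom B A)).op s.1) := by
      rw [sectSupp_eq]; exact hx
    rw [sectSupp_map] at hx'
    have e : ((EtCoh.bc h).map (subHom B A)).left ≫ pr = pullback.fst (sub B A).hom h ≫ A.ι :=
      (EtCoh.isPullback_bc_map h (subHom B A)).w
    have e2 := (Scheme.Hom.comp_apply _ _ x).symm.trans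
      ((congrArg (fun r : ((EtCoh.bc h).obj (sub B A)).left ⟶ B.left => r x) e).trans
        (Scheme.Hom.comp_apply _ _ _))
    exact (pullback.fst (sub B A).hom h x).2 ⟨_, hx', e2⟩
  · rintro _ ⟨z, hz, rfl⟩ W φ ⟨w, hw⟩ h0
    obtain ⟨x, hx₁, -⟩ := Scheme.exists_preimage_of_isPullback (EtCoh.isPullback_bc_map h φ) z w hw.symm
    refine notMem_of_map ((EtCoh.bc h).map φ) s.1 (congrArg Subtype.val h0) ⟨x, hx₁⟩ hz
where
  notMem_of_map {F : EtCoh.Ab X} {U W : X.Etale} (φ : W ⟶ U) (s : EtCoh.sect F U)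
      (h0 : F.obj.map φ.op s = 0) {z : U.left} (hz : z ∈ Set.range φ.left) :
      z ∉ EtShriek.sectSupp F U s := fun hs => hs W φ hz h0

omit [IsSeparated h] in
theorem range_sh_comp (F : EtCoh.Ab X) (W : Z.Etale) (x : F.obj.obj (op ((EtCoh.bc (h ≫ g)).obj W))) :
    x ∈ EtShriek.shriekSubgroup (h ≫ g) F W ↔
      ∃ hm : F.obj.map (bcCompHom h g W).op x ∈ EtShriek.shriekSubgroup h F ((EtCoh.bc g).obj W),
        (⟨_, hm⟩ : EtShriek.shriekSubgroup h F ((EtCoh.bc g).obj W)) ∈
          EtShriek.shriekSubgroup g ((shFunctor h).obj F) W := by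
  haveI := isIso_bcCompHom h g W
  haveI : IsIso (bcCompHom h g W).left :=
    ⟨(inv (bcCompHom h g W)).left, congrArg (fun t => t.left) (IsIso.hom_inv_id (bcCompHom h g W)),
      congrArg (fun t => t.left) (IsIso.inv_hom_id (bcCompHom h g W))⟩
  let ε : pullback (pullback.snd W.hom g) h ⟶ pullback W.hom (h ≫ g) := (bcCompHom h g W).left
  haveI : IsIso ε := ‹IsIso (bcCompHom h g W).left›
  let p₁ := pullback.fst (pullback.snd W.hom g) h
  let p₂ := pullback.fst W.hom g
  let σ := EtShriek.sectSupp F _ x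
  have hsupp : EtShriek.sectSupp F _ (F.obj.map (bcCompHom h g W).op x) = ε ⁻¹' σ :=
    sectSupp_map F (bcCompHom h g W) x
  have hε : ε ≫ pullback.fst W.hom (h ≫ g) = p₁ ≫ p₂ := bcCompHom_fst h g W
  -- properness over `W` can be computed on either model
  have hiff : ClSub.IsProperOver (pullback.fst W.hom (h ≫ g)) σ ↔ ClSub.IsProperOver (p₁ ≫ p₂) (ε ⁻¹' σ) := by
    constructor
    · intro hσ
      exact ClSub24.isProperOver_preimage_of_isPullback (pullback.fst W.hom (h ≫ g))
        (IsPullback.of_horiz_isIso (fst := ε) (snd := p₁ ≫ p₂) (f := pullback.fst W.hom (h ≫ g)) (g := 𝟙 ((𝟭 Scheme).obj W.left))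
          ⟨hε.trans (Category.comp_id _).symm⟩) hσ
    · intro hσ
      obtain ⟨T, i, hi, hr, hp⟩ := (ClSub24.isProperOver_iff_exists _ _).1 hσ
      haveI : IsProper ((i ≫ ε) ≫ pullback.fst W.hom (h ≫ g)) := by
        rw [Category.assoc, hε]; exact hp
      refine LimH13.isProperOver_of_isProper (pullback.fst W.hom (h ≫ g)) (i ≫ ε) ?_
      rw [range_comp', hr, Set.image_preimage_eq _ ε.surjective]
  rw [mem_shriekSubgroup_iff]
  refine hiff.trans ?_
  constructor
  · intro hσ
    obtain ⟨T, i, hi, hr, hp⟩ := (ClSub24.isProperOver_iff_exists _ _).1 hσ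
    haveI : IsProper ((i ≫ p₁) ≫ p₂) := by rw [Category.assoc]; exact hp
    haveI : IsSeparated p₂ := MorphismProperty.pullback_fst _ _ ‹IsSeparated g›
    haveI : IsProper (i ≫ p₁) := IsProper.of_comp (i ≫ p₁) p₂
    have h1 : ClSub.IsProperOver p₁ (ε ⁻¹' σ) := LimH13.isProperOver_of_isProper p₁ i hr
    have hm : F.obj.map (bcCompHom h g W).op x ∈ EtShriek.shriekSubgroup h F ((EtCoh.bc g).obj W) :=
      (mem_shriekSubgroup_iff h F _ _).2 (hsupp ▸ h1)
    refine ⟨hm, (mem_shriekSubgroup_iff g _ W _).2 ?_⟩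
    refine Eq.mpr (congrArg (ClSub.IsProperOver (EtShriek.prV g W)) (sectSupp_sh h F _ ⟨_, hm⟩)) ?_
    refine Eq.mpr (congrArg (fun S => ClSub.IsProperOver (EtShriek.prV g W) (p₁ '' S)) hsupp) ?_
    exact isProperOver_image' p₁ p₂ hσ
  · rintro ⟨hm, hg⟩
    have h1 := (mem_shriekSubgroup_iff h F _ _).1 hm
    rw [hsupp] at h1
    have h2 := (mem_shriekSubgroup_iff g _ W _).1 hg
    have h3 : ClSub.IsProperOver p₂ (p₁ '' (ε ⁻¹' σ)) :=
      Eq.mp (congrArg (fun S => ClSub.IsProperOver (EtShriek.prV g W) (p₁ '' S)) hsupp)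
        (Eq.mp (congrArg (ClSub.IsProperOver (EtShriek.prV g W)) (sectSupp_sh h F _ ⟨_, hm⟩)) h2)
    exact isProperOver_comp p₁ p₂ h1 h3
where
  isProperOver_image' {A B C : Scheme.{u}} (p : A ⟶ B) (q : B ⟶ C) [LocallyOfFiniteType p]
      [IsSeparated q] [LocallyOfFiniteType q] {S : Set A} (hS : ClSub.IsProperOver (p ≫ q) S) :
      ClSub.IsProperOver q (p '' S) := by
    obtain ⟨T, i, hi, hr, hp⟩ := (ClSub24.isProperOver_iff_exists (p ≫ q) S).1 hS
    haveI : IsProper ((i ≫ p) ≫ q) := by rw [Category.assoc]; exact hp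
    haveI : IsProper (i ≫ p) := IsProper.of_comp (i ≫ p) q
    let j := (i ≫ p).imageι
    haveI : IsClosedImmersion j := inferInstance
    have hrj : Set.range j = Set.range (i ≫ p) := by
      show Set.range (i ≫ p).ker.subschemeι = _
      rw [Scheme.IdealSheafData.range_subschemeι, Scheme.Hom.support_ker]
      exact (i ≫ p).isClosedMap.isClosed_range.closure_eq
    haveI : Surjective (i ≫ p).toImage := ⟨fun y => by
      obtain ⟨t, ht⟩ := hrj.le ⟨y, rfl⟩
      exact ⟨t, j.isEmbedding.injective (by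
        rw [← Scheme.Hom.comp_apply, Scheme.Hom.toImage_imageι]; exact ht)⟩⟩
    haveI : IsProper ((i ≫ p).toImage ≫ j ≫ q) := by
      rw [Scheme.Hom.toImage_imageι_assoc, Category.assoc]; exact hp
    haveI : IsProper (j ≫ q) := isProper_of_surjective (i ≫ p).toImage (j ≫ q)
    refine LimH13.isProperOver_of_isProper q j ?_
    rw [hrj]
    rw [range_comp', hr]
  isProper_of_surjective {A B C : Scheme.{u}} (s : A ⟶ B) (q : B ⟶ C) [Surjective s] [IsSeparated q]
      [LocallyOfFiniteType q] [IsProper (s ≫ q)] : IsProper q := by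
    haveI : UniversallyClosed q := UniversallyClosed.of_comp_surjective s q
    constructor
  isProperOver_comp {A B C : Scheme.{u}} (p : A ⟶ B) (q : B ⟶ C) [LocallyOfFiniteType p]
      [LocallyOfFiniteType q] {S : Set A} (h1 : ClSub.IsProperOver p S)
      (h2 : ClSub.IsProperOver q (p '' S)) : ClSub.IsProperOver (p ≫ q) S := by
    obtain ⟨T, i, hi, hr, hp⟩ := (ClSub24.isProperOver_iff_exists p S).1 h1
    obtain ⟨R, j, hj, hrj, hpj⟩ := (ClSub24.isProperOver_iff_exists q (p '' S)).1 h2
    let T' := pullback (i ≫ p) j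
    haveI : IsProper (pullback.snd (i ≫ p) j) := MorphismProperty.pullback_snd _ _ hp
    haveI : IsProper ((pullback.fst (i ≫ p) j ≫ i) ≫ p ≫ q) := by
      rw [Category.assoc, ← Category.assoc i, pullback.condition_assoc]
      infer_instance
    refine LimH13.isProperOver_of_isProper (p ≫ q) (pullback.fst (i ≫ p) j ≫ i) ?_
    have hfst : Set.range (pullback.fst (i ≫ p) j) = Set.univ := by
      rw [Scheme.Pullback.range_fst, hrj]
      refine Set.eq_univ_of_forall fun t => ⟨i t, hr.le ⟨t, rfl⟩, ?_⟩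
      exact (Scheme.Hom.comp_apply _ _ _).symm
    rw [range_comp', hfst, Set.image_univ, hr]

/-- The comparison map `h_! ⋙ g_! ⟶ h_* ⋙ g_*`. -/
noncomputable def shCompι : shFunctor h ⋙ shFunctor g ⟶ EtCoh.push h ⋙ EtCoh.push g where
  app F := (shFunctor g).map ((shι h).app F) ≫ (shι g).app ((EtCoh.push h).obj F)
  naturality F G α := by
    show (shFunctor g).map ((shFunctor h).map α) ≫ (shFunctor g).map ((shι h).app G) ≫ _ =
      ((shFunctor g).map ((shι h).app F) ≫ _) ≫ (EtCoh.push g).map ((EtCoh.push h).map α)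
    rw [← Functor.map_comp_assoc, (shι h).naturality, Functor.map_comp_assoc, (shι g).naturality,
      Category.assoc]

omit [IsSeparated h] [IsSeparated g] in
theorem mono_shCompι (F : EtCoh.Ab X) : Mono ((shCompι h g).app F) := by
  haveI : Mono ((shFunctor g).map ((shι h).app F)) := inferInstance
  exact mono_comp _ _

omit [IsSeparated h] in
theorem exists_sh_comp (F : EtCoh.Ab X) :
    ∃ e : (shFunctor (h ≫ g)).obj F ≅ (shFunctor g).obj ((shFunctor h).obj F),
      e.hom ≫ (shCompι h g).app F = (shι (h ≫ g)).app F ≫ (EtCoh.pushComp g h).inv.app F := by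
  haveI := mono_shCompι h g F
  refine exists_iso_of_range _ _ (fun W x => ?_) (fun W y => ?_)
  · obtain ⟨hm, hg⟩ := (range_sh_comp h g F W.unop x.1).1 x.2
    exact ⟨⟨⟨_, hm⟩, hg⟩, (pushComp_inv_app h g F W.unop x.1).symm⟩
  · haveI := isIso_bcCompHom h g W.unop
    let ye : F.obj.obj (op ((EtCoh.bc h).obj ((EtCoh.bc g).obj W.unop))) :=
      Subtype.val (Subtype.val y : EtShriek.shriekSubgroup h F ((EtCoh.bc g).obj W.unop))
    let x := F.obj.map (inv (bcCompHom h g W.unop)).op ye
    have hx : F.obj.map (bcCompHom h g W.unop).op x = ye := by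
      rw [← Functor.map_comp_apply, ← op_comp, IsIso.hom_inv_id, op_id, CategoryTheory.Functor.map_id]
      rfl
    have hy : (⟨F.obj.map (bcCompHom h g W.unop).op x, hx.symm ▸ (Subtype.val y :
        EtShriek.shriekSubgroup h F ((EtCoh.bc g).obj W.unop)).2⟩ :
          EtShriek.shriekSubgroup h F ((EtCoh.bc g).obj W.unop)) = Subtype.val y := Subtype.ext hx
    refine ⟨⟨x, (range_sh_comp h g F W.unop x).2 ⟨_, hy.symm ▸ y.2⟩⟩, ?_⟩
    exact (pushComp_inv_app h g F W.unop x).trans hx

theorem existsUnique_lowerShriek_comp :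
    ∃! φ : EtShriek.lowerShriek (h ≫ g) ≅ EtShriek.lowerShriek h ⋙ EtShriek.lowerShriek g,
      ∀ F : EtCoh.Ab X,
        φ.hom.app F ≫ (EtShriek.lowerShriek g).map (EtShriek.lowerShriekToPush h F) ≫
            EtShriek.lowerShriekToPush g ((EtCoh.push h).obj F) =
          EtShriek.lowerShriekToPush (h ≫ g) F ≫ (EtCoh.pushComp g h).inv.app F := by
  choose e he using exists_sh_comp h g
  have hnat : ∀ {F G : EtCoh.Ab X} (α : F ⟶ G),
      (shFunctor (h ≫ g)).map α ≫ (e G).hom = (e F).hom ≫ (shFunctor g).map ((shFunctor h).map α) := by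
    intro F G α
    haveI := mono_shCompι h g G
    refine (cancel_mono ((shCompι h g).app G)).1 ?_
    rw [Category.assoc, he, Category.assoc]
    refine Eq.trans ?_ (congrArg ((e F).hom ≫ ·) ((shCompι h g).naturality α).symm)
    rw [← Category.assoc, ← Category.assoc (e F).hom, he, (shι (h ≫ g)).naturality, Category.assoc,
      Category.assoc]
    exact congrArg ((shι (h ≫ g)).app F ≫ ·) ((EtCoh.pushComp g h).inv.naturality α)
  let E : shFunctor (h ≫ g) ≅ shFunctor h ⋙ shFunctor g := NatIso.ofComponents e hnat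
  let Φ : EtShriek.lowerShriek (h ≫ g) ≅ EtShriek.lowerShriek h ⋙ EtShriek.lowerShriek g :=
    shIso (h ≫ g) ≪≫ E ≪≫ Functor.isoWhiskerLeft (shFunctor h) (shIso g).symm ≪≫
      Functor.isoWhiskerRight (shIso h).symm (EtShriek.lowerShriek g)
  have hR : ∀ F : EtCoh.Ab X, (EtShriek.lowerShriek g).map (EtShriek.lowerShriekToPush h F) ≫
      EtShriek.lowerShriekToPush g ((EtCoh.push h).obj F) =
      (EtShriek.lowerShriek g).map ((shIso h).hom.app F) ≫ (shIso g).hom.app ((shFunctor h).obj F) ≫
        (shCompι h g).app F := fun F => by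
    rw [lowerShriekToPush_eq, lowerShriekToPush_eq, Functor.map_comp, Category.assoc,
      NatTrans.naturality_assoc]
    rfl
  have key : ∀ F : EtCoh.Ab X, Φ.hom.app F ≫ (EtShriek.lowerShriek g).map (EtShriek.lowerShriekToPush h F) ≫
      EtShriek.lowerShriekToPush g ((EtCoh.push h).obj F) =
      EtShriek.lowerShriekToPush (h ≫ g) F ≫ (EtCoh.pushComp g h).inv.app F := fun F => by
    rw [hR, lowerShriekToPush_eq]
    show ((shIso (h ≫ g)).hom.app F ≫ E.hom.app F ≫ (shIso g).inv.app ((shFunctor h).obj F) ≫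
      (EtShriek.lowerShriek g).map ((shIso h).inv.app F)) ≫ _ = _
    simp only [Category.assoc]
    rw [← Functor.map_comp_assoc, Iso.inv_hom_id_app, CategoryTheory.Functor.map_id, Category.id_comp,
      Iso.inv_hom_id_app_assoc]
    exact congrArg ((shIso (h ≫ g)).hom.app F ≫ ·) (he F)
  refine ⟨Φ, key, fun φ hφ => Iso.ext (NatTrans.ext (funext fun F => ?_))⟩
  haveI := mono_shCompι h g F
  haveI : Mono ((EtShriek.lowerShriek g).map (EtShriek.lowerShriekToPush h F) ≫
      EtShriek.lowerShriekToPush g ((EtCoh.push h).obj F)) := by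
    rw [hR]; infer_instance
  exact (cancel_mono ((EtShriek.lowerShriek g).map (EtShriek.lowerShriekToPush h F) ≫
      EtShriek.lowerShriekToPush g ((EtCoh.push h).obj F))).1 ((hφ F).trans (key F).symm)

omit h [IsSeparated h] [LocallyOfFiniteType h] [IsSeparated g] in
/-- For a proper morphism every section has proper support. -/
theorem isIso_shι_of_isProper [IsProper g] (F : EtCoh.Ab Y) : IsIso ((shι g).app F) := by
  haveI : IsIso ((sheafToPresheaf _ _).map ((shι g).app F)) := by
    haveI : ∀ W, IsIso (((shι g).app F).hom.app W) := fun W => (ConcreteCategory.isIso_iff_bijective _).2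
      ⟨shι_app_injective g F W, fun s => ⟨⟨s, (mem_shriekSubgroup_iff g F W.unop s).2 (by
        let I := Scheme.IdealSheafData.vanishingIdeal
          (⟨EtShriek.sectSupp F _ s, isClosed_sectSupp F _ s⟩ :
            TopologicalSpace.Closeds (pullback W.unop.hom g : Scheme.{u}))
        let i : I.subscheme ⟶ pullback W.unop.hom g := I.subschemeι
        haveI : IsClosedImmersion i := inferInstanceAs (IsClosedImmersion I.subschemeι)
        haveI : IsProper (pullback.fst W.unop.hom g) := MorphismProperty.pullback_fst _ _ ‹_›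
        haveI : IsProper (i ≫ pullback.fst W.unop.hom g) := inferInstance
        refine LimH13.isProperOver_of_isProper (pullback.fst W.unop.hom g) i ?_
        show Set.range I.subschemeι = _
        rw [Scheme.IdealSheafData.range_subschemeι, Scheme.IdealSheafData.coe_support_vanishingIdeal]
        rfl)⟩, rfl⟩⟩
    exact NatIso.isIso_of_isIso_app ((shι g).app F).hom
  exact isIso_of_reflects_iso _ (sheafToPresheaf _ _)

end Groth.Agent.EtShriek24
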