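import Groth.Agent.Lib.EtShriek24.StalkSum

/-!
# Extension by zero along separated étale morphisms is the direct image with proper support
-/

universe u

set_option maxHeartbeats 800000

open CategoryTheory CategoryTheory.Limits AlgebraicGeometry Opposite
open Groth.Agent.EtStalk Groth.Agent.ExtShriek24

namespace Groth.Agent.EtShriek24

variable {U X : Scheme.{u}} (j : U ⟶ X) [AlgebraicGeometry.Etale j] [IsSeparated j] [EtShriek.JCont j]

theorem extSec_mem (F : EtCoh.Ab U) (V : U.Etale) (s : F.obj.obj (op V)) :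
    extSec j V s ∈ EtShriek.shriekSubgroup j F ((EtShriek.compEtale j).obj V) := by
  obtain ⟨ho, hc⟩ := isOpenImmersion_gamma j V
  haveI := hc
  let g : V.left ⟶ pullback (V.hom ≫ j) j := (gamma j V).left
  haveI : IsClosedImmersion g := hc
  refine (mem_shriekSubgroup_iff j F _ _).2 (ClSub24.isProperOver_subset (pullback.fst (V.hom ≫ j) j)
    (Z := Set.range g) (fun z hz => ?_) (isClosed_sectSupp F _ _) ?_)
  · by_contra hzr
    obtain ⟨φ, hφ⟩ := exists_fib (bcComp j V) z
    have h := (isExt_extSec j V s).2 _ _ φ (fun h => hzr (hφ ▸ h))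
    have hz' : z ∉ agree F (extSec j V s) 0 := by rw [sectSupp_eq] at hz; exact hz
    exact hz' (hφ ▸ (mem_agree_iff_germ F φ _ 0).2 (h.trans (map_zero _).symm))
  · haveI : IsProper (g ≫ pullback.fst (V.hom ≫ j) j) := by
      rw [show g ≫ pullback.fst (V.hom ≫ j) j = 𝟙 _ from gamma_fst j V]; infer_instance
    exact LimH13.isProperOver_of_isProper (pullback.fst (V.hom ≫ j) j) g rfl

/-- The lift of the comparison to sections with proper support. -/
noncomputable def toRestrSh (F : EtCoh.Ab U) :
    F ⟶ (EtShriek.restrAlong j).obj ((shFunctor j).obj F) where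
  hom :=
    { app := fun V => AddCommGrpCat.ofHom (((toRestrPush j F).hom.app V).hom.codRestrict
        (EtShriek.shriekSubgroup j F ((EtShriek.compEtale j).obj V.unop)) (extSec_mem j F V.unop))
      naturality := fun V V' g => AddCommGrpCat.ext fun s => Subtype.ext
        (NatTrans.naturality_apply (toRestrPush j F).hom g s) }

theorem toRestrSh_ι (F : EtCoh.Ab U) :
    toRestrSh j F ≫ (EtShriek.restrAlong j).map ((shι j).app F) = toRestrPush j F :=
  Sheaf.hom_ext (NatTrans.ext (funext fun V => AddCommGrpCat.ext fun s => rfl))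

theorem toRestrSh_nat {F G : EtCoh.Ab U} (a : F ⟶ G) :
    a ≫ toRestrSh j G = toRestrSh j F ≫ (EtShriek.restrAlong j).map ((shFunctor j).map a) :=
  Sheaf.hom_ext (NatTrans.ext (funext fun V => AddCommGrpCat.ext fun s => Subtype.ext
    (ConcreteCategory.congr_hom (congrArg (fun t : F ⟶ (EtShriek.restrAlong j).obj ((EtCoh.push j).obj G) =>
      t.hom.app V) (toRestrPush_nat j a)) s)))

/-- The comparison with sections with proper support. -/
noncomputable def toSh : EtShriek.extZero j ⟶ shFunctor j where
  app F := ((EtShriek.extZeroAdj j).homEquiv _ _).symm (toRestrSh j F)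
  naturality F G a := by
    rw [← Adjunction.homEquiv_naturality_left_symm, ← Adjunction.homEquiv_naturality_right_symm,
      toRestrSh_nat]

theorem toSh_ι (F : EtCoh.Ab U) : (toSh j).app F ≫ (shι j).app F = (toPush j).app F := by
  show ((EtShriek.extZeroAdj j).homEquiv _ _).symm (toRestrSh j F) ≫ _ = _
  rw [← Adjunction.homEquiv_naturality_right_symm, toRestrSh_ι]
  rfl

theorem isIso_toSh_app (F : EtCoh.Ab U) : IsIso ((toSh j).app F) := by
  classical
  haveI := FiniteSplit.locallyQuasiFinite_of_etale j
  rw [isIso_iff_stalk_alg]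
  intro Ω _ _ ξ
  have key : sumToStalk j ξ F ≫ (EtCoh.stalk ξ).map ((toSh j).app F) = Sigma.desc (single j ξ F) := by
    refine Sigma.hom_ext _ _ fun p => ?_
    refine Eq.trans ?_ (Sigma.ι_desc (single j ξ F) p).symm
    refine AddCommGrpCat.ext fun q => phi_injective j ξ F (funext fun l => ?_)
    refine Eq.trans ?_ (congrFun (phi_single j ξ F p q) l).symm
    refine (congrArg (liftStalk j ξ l F) ?_).trans ((liftStalk_toPush j ξ F p l q).trans ?_)
    · rw [← toSh_ι, Functor.map_comp_apply]
      rfl
    · split_ifs with h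
      · subst h; rw [Pi.single_eq_same]
      · rw [Pi.single_eq_of_ne (Ne.symm h)]
  have hd := bijective_desc_single j ξ F
  have hs := ConcreteCategory.bijective_of_isIso (stalkExtZero j ξ F).hom
  refine (Function.Bijective.of_comp_iff _ hs).1 ?_
  have e : ⇑((EtCoh.stalk ξ).map ((toSh j).app F)) ∘ ⇑(stalkExtZero j ξ F).hom =
      ⇑(Sigma.desc (single j ξ F)) := funext fun q => ConcreteCategory.congr_hom key q
  rw [e]
  exact hd

theorem extZero_iso_lowerShriek : Nonempty (EtShriek.extZero j ≅ EtShriek.lowerShriek j) := by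
  haveI : ∀ F, IsIso ((toSh j).app F) := isIso_toSh_app j
  haveI : IsIso (toSh j) := NatIso.isIso_of_isIso_app _
  exact ⟨asIso (toSh j) ≪≫ (shIso j).symm⟩

end Groth.Agent.EtShriek24
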