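import Groth.Agent.Lib.EtShriek24.Comp
import Groth.Agent.Lib.EtShriek24.ExtZero
import Groth.Prelude.Def_EtCore

/-!
# Direct image with proper support through a compactification
-/

universe u

set_option maxHeartbeats 800000

open CategoryTheory CategoryTheory.Limits AlgebraicGeometry Opposite
open Groth.Agent.EtStalk

namespace Groth.Agent.EtShriek24

/-- For a proper morphism the direct image with proper support is the direct image. -/
theorem lowerShriek_iso_push {X Y : Scheme.{u}} (g : X ⟶ Y) [IsProper g] :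
    Nonempty (EtShriek.lowerShriek g ≅ EtCoh.push g) :=
  ⟨shIso g ≪≫ NatIso.ofComponents
    (fun F => @asIso _ _ _ _ ((shι g).app F) (isIso_shι_of_isProper g F))
    (fun α => (shι g).naturality α)⟩

theorem lowerShriek_compactification {X Xb Y : Scheme.{u}} (j : X ⟶ Xb) [IsOpenImmersion j]
    (fb : Xb ⟶ Y) [IsProper fb] [EtShriek.JCont j] :
    Nonempty (EtShriek.lowerShriek (j ≫ fb) ≅ EtShriek.extZero j ⋙ EtCoh.push fb) := by
  obtain ⟨φ, -⟩ := existsUnique_lowerShriek_comp j fb
  obtain ⟨e⟩ := extZero_iso_lowerShriek j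
  obtain ⟨e'⟩ := lowerShriek_iso_push fb
  exact ⟨φ ≪≫ Functor.isoWhiskerLeft (EtShriek.lowerShriek j) e' ≪≫
    Functor.isoWhiskerRight e.symm (EtCoh.push fb)⟩

theorem H0c_iso_sect {k : Type u} [Field k] {X : Scheme.{u}} (p : X ⟶ Spec (CommRingCat.of k))
    [LocallyOfFiniteType p] (F : EtCoh.Ab X) :
    Nonempty ((EtShriek.H0c p F) ≃+
      ((shFunctor p).obj F).obj.obj (op (EtCoh.top (Spec (CommRingCat.of k))))) := by
  let T := EtCoh.top (Spec (CommRingCat.of k))
  let B := (EtCoh.bc p).obj T
  let e : EtCoh.top X ≅ B :=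
    IsTerminal.uniqueUpToIso (MorphismProperty.Over.mkIdTerminal _ _) (EtCore.bcTopIsTerminal p)
  let φ : EtCoh.sect F B →+ EtCoh.sect F (EtCoh.top X) := (F.obj.map e.hom.op).hom
  have hφ : Function.Bijective φ := ConcreteCategory.bijective_of_isIso (F.obj.map e.hom.op)
  have hsupp : ∀ s, EtShriek.sectSupp F _ (φ s) = e.hom.left ⁻¹' EtShriek.sectSupp F B s := fun s =>
    sectSupp_map F e.hom s
  have hleft : e.hom.left ≫ pullback.fst T.hom p = p := by
    have h1 : e.hom.left ≫ pullback.snd T.hom p = 𝟙 X := MorphismProperty.Over.w e.hom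
    exact (congrArg (e.hom.left ≫ ·) ((Category.comp_id _).symm.trans pullback.condition)).trans
      ((Category.assoc _ _ _).symm.trans ((congrArg (· ≫ p) h1).trans (Category.id_comp p)))
  let el : X ⟶ pullback T.hom p := e.hom.left
  haveI : IsIso el := ⟨e.inv.left, congrArg (fun t => t.left) e.hom_inv_id,
    congrArg (fun t => t.left) e.inv_hom_id⟩
  have hiff : ∀ s, EtShriek.HasProperSupport F (EtCoh.top X) (φ s) p ↔
      s ∈ EtShriek.shriekSubgroup p F T := fun s => by
    rw [mem_shriekSubgroup_iff]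
    constructor
    · rintro ⟨Z, hZ, hp⟩
      have hσ : ClSub.IsProperOver p (el ⁻¹' EtShriek.sectSupp F B s) :=
        ClSub24.isProperOver_subset p ((hsupp s).symm.subset.trans hZ)
          ((isClosed_sectSupp F B s).preimage el.continuous) hp
      obtain ⟨R, i, hi, hr, hpr⟩ := (ClSub24.isProperOver_iff_exists p _).1 hσ
      haveI : IsProper ((i ≫ el) ≫ pullback.fst T.hom p) := by
        rw [Category.assoc, show el ≫ pullback.fst T.hom p = p from hleft]; exact hpr
      refine LimH13.isProperOver_of_isProper (pullback.fst T.hom p) (i ≫ el) ?_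
      rw [range_comp', hr, Set.image_preimage_eq _ el.surjective]
    · intro h
      refine ⟨el ⁻¹' EtShriek.sectSupp F B s, (hsupp s).subset, ?_⟩
      obtain ⟨R, i, hi, hr, hpr⟩ := (ClSub24.isProperOver_iff_exists (pullback.fst T.hom p) _).1 h
      have hinv : inv el ≫ p = pullback.fst T.hom p := (IsIso.inv_comp_eq el).2 hleft.symm
      haveI : IsProper ((i ≫ inv el) ≫ p) := by rw [Category.assoc, hinv]; exact hpr
      refine LimH13.isProperOver_of_isProper p (i ≫ inv el) ?_
      rw [range_comp', hr]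
      ext x
      constructor
      · rintro ⟨z, hz, rfl⟩
        show el (inv el z) ∈ EtShriek.sectSupp F B s
        rw [← Scheme.Hom.comp_apply, IsIso.inv_hom_id]; exact hz
      · intro hx
        exact ⟨el x, hx, by rw [← Scheme.Hom.comp_apply, IsIso.hom_inv_id]; rfl⟩
  have hmap : (EtShriek.shriekSubgroup p F T).map φ = EtShriek.H0c p F := by
    refine le_antisymm ?_ ((AddSubgroup.closure_le _).2 fun x hx => ?_)
    · rintro _ ⟨s, hs, rfl⟩
      exact AddSubgroup.subset_closure ((hiff s).2 hs)
    · obtain ⟨s, rfl⟩ := hφ.2 x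
      exact ⟨s, (hiff s).1 hx, rfl⟩
  exact ⟨((AddSubgroup.equivMapOfInjective _ φ hφ.1).trans (AddEquiv.addSubgroupCongr hmap)).symm⟩

end Groth.Agent.EtShriek24
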