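import Groth.Agent.Lib.EtShriek24.Filtered
import Mathlib.CategoryTheory.Limits.Constructions.Filtered
import Mathlib.CategoryTheory.Preadditive.AdditiveFunctor
import Mathlib.CategoryTheory.Limits.Preserves.Shapes.Products

/-!
# Functors commuting with finite and filtered colimits commute with coproducts
-/

universe w v₁ v₂ u₁ u₂

open CategoryTheory CategoryTheory.Limits CoproductsFromFiniteFiltered

namespace Groth.Agent.EtShriek24

variable {C : Type u₁} [Category.{v₁} C] {D : Type u₂} [Category.{v₂} D]

theorem preservesCoproducts_of_finite_and_filtered (F : C ⥤ D) [HasFiniteCoproducts C]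
    [HasFiniteCoproducts D] [HasFilteredColimitsOfSize.{w, w} C] [HasCoproducts.{w} C] [HasCoproducts.{w} D]
    [PreservesFiniteCoproducts F] [PreservesFilteredColimitsOfSize.{w, w} F] (α : Type w) :
    PreservesColimitsOfShape (Discrete α) F := by
  classical
  suffices h : ∀ f : α → C, PreservesColimit (Discrete.functor f) F by
    exact ⟨fun {K} => preservesColimit_of_iso_diagram F (Discrete.natIsoFunctor (F := K)).symm⟩
  intro f
  haveI : HasColimitsOfShape (Finset (Discrete α)) C := inferInstance
  let hc := isColimitOfPreserves F (isColimitFiniteSubproductsCocone f)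
  let g : ∀ S : Finset (Discrete α), {x // x ∈ S} → C := fun S s => f s.1.as
  let leg : ∀ S : Finset (Discrete α), F.obj (∐ g S) ⟶ ∐ fun i => F.obj (f i) := fun S =>
    inv (sigmaComparison F (g S)) ≫ Sigma.desc fun s => Sigma.ι (fun i => F.obj (f i)) s.1.as
  have hleg : ∀ S (s : {x // x ∈ S}), F.map (Sigma.ι (g S) s) ≫ leg S =
      Sigma.ι (fun i => F.obj (f i)) s.1.as := fun S s => by
    rw [← ι_comp_sigmaComparison F (g S) s, Category.assoc]
    simp only [leg, IsIso.hom_inv_id_assoc]
    rw [Sigma.ι_desc]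
  let c : Cocone (liftToFinsetObj (Discrete.functor f) ⋙ F) :=
    { pt := ∐ fun i => F.obj (f i)
      ι :=
        { app := leg
          naturality := fun S T a => by
            refine (cancel_epi (sigmaComparison F (g S))).1 (Sigma.hom_ext _ _ fun s => ?_)
            let m : ∐ g S ⟶ ∐ g T := (liftToFinsetObj (Discrete.functor f)).map a
            show _ ≫ _ ≫ F.map m ≫ leg T = _ ≫ _ ≫ leg S ≫ 𝟙 _
            rw [Category.comp_id, ι_comp_sigmaComparison_assoc, ι_comp_sigmaComparison_assoc, hleg]
            rw [← Category.assoc, ← F.map_comp]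
            have e : Sigma.ι (g S) s ≫ m =
                Sigma.ι (g T) ⟨s.1, leOfHom a s.2⟩ := Sigma.ι_desc _ _
            rw [e, hleg] } }
  have hι : ∀ i, F.map (Sigma.ι f i) ≫ hc.desc c = Sigma.ι (fun i => F.obj (f i)) i := fun i => by
    let S : Finset (Discrete α) := {⟨i⟩}
    let ap : ∐ g S ⟶ ∐ f := (finiteSubcoproductsCocone f).ι.app S
    have e : Sigma.ι (g S) ⟨⟨i⟩, Finset.mem_singleton_self _⟩ ≫ ap =
        Sigma.ι f i := Sigma.ι_desc _ _
    rw [← e, F.map_comp, Category.assoc]
    exact (congrArg (_ ≫ ·) (hc.fac c S)).trans (hleg S _)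
  haveI : IsIso (sigmaComparison F f) := by
    refine ⟨hc.desc c, Sigma.hom_ext _ _ fun i => ?_, hc.hom_ext fun S => ?_⟩
    · rw [ι_comp_sigmaComparison_assoc, hι, Category.comp_id]
    · refine (hc.fac_assoc c S _).trans ?_
      refine Eq.trans ?_ (Category.comp_id _).symm
      refine (cancel_epi (sigmaComparison F (g S))).1 (Sigma.hom_ext _ _ fun s => ?_)
      let ap : ∐ g S ⟶ ∐ f := (finiteSubcoproductsCocone f).ι.app S
      show _ ≫ _ ≫ leg S ≫ _ = _ ≫ _ ≫ F.map ap
      rw [ι_comp_sigmaComparison_assoc, ι_comp_sigmaComparison_assoc, ← Category.assoc, hleg,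
        ι_comp_sigmaComparison, ← F.map_comp]
      exact congrArg F.map (Sigma.ι_desc (f := g S) (fun s => Sigma.ι f s.1.as) s).symm
  exact PreservesCoproduct.of_iso_comparison F f

end Groth.Agent.EtShriek24
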