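import Groth.Agent.Lib.ClSub24.Proper
import Groth.Agent.S2079
import Groth.Agent.Lib.Constr24.PushFinite

/-!
# Closed sets proper over the base have constructible closed neighbourhoods proper over the base
-/

universe u

set_option backward.isDefEq.respectTransparency false
set_option backward.isDefEq.respectTransparency.types false

set_option maxHeartbeats 800000

open CategoryTheory CategoryTheory.Limits AlgebraicGeometry Opposite

namespace Groth.Agent.EtShriek24

/-- A closed subset proper over the base is contained in one with quasi-compact complement. -/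
theorem exists_proper_superset {U S : Scheme.{u}} (p : U ⟶ S) [IsSeparated p] [LocallyOfFiniteType p]
    [CompactSpace U] [QuasiSeparatedSpace U] [CompactSpace S] [QuasiSeparatedSpace S] (Z : Set U)
    (hZ : ClSub.IsProperOver p Z) :
    ∃ Z' : Set U, Z ⊆ Z' ∧ IsClosed Z' ∧ ClSub.IsProperOver p Z' ∧ IsCompact Z'ᶜ := by
  classical
  obtain ⟨T, i, hi, hr, hp⟩ := (ClSub24.isProperOver_iff_exists p Z).1 hZ
  haveI : IsFiltered (LimH13.FGIdx i.ker) :=
    haveI := LimH13.isDirected_fgIdx i.ker
    isFiltered_of_directed_le_nonempty _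
  haveI : IsConnected (LimH13.FGIdx i.ker)ᵒᵖ := IsCofiltered.isConnected _
  let E := LimH13.fgDiag i.ker ⋙ Over.forget U
  let cX := (Over.forget U).mapCone (LimH13.fgCone i)
  have hcX : Limits.IsLimit cX := Limits.isLimitOfPreserves (Over.forget U) (LimH13.isLimitFGCone i)
  let h : E ⟶ (Functor.const (LimH13.FGIdx i.ker)ᵒᵖ).obj S :=
    { app := fun a => a.unop.1.subschemeι ≫ p
      naturality := fun a b φ => by
        change ((LimH13.fgDiag i.ker).map φ).left ≫ ((LimH13.fgDiag i.ker).obj b).hom ≫ p =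
          (((LimH13.fgDiag i.ker).obj a).hom ≫ p) ≫ 𝟙 S
        rw [Category.comp_id, Over.w_assoc] }
  haveI : ∀ {a b} (φ : a ⟶ b), IsClosedImmersion (E.map φ) := fun φ =>
    LimH13.isClosedImmersion_fgDiag_map _ φ
  haveI hEc : ∀ a, CompactSpace (E.obj a) := fun a =>
    QuasiCompact.compactSpace_of_compactSpace a.unop.1.subschemeι
  haveI hEq : ∀ a, QuasiSeparatedSpace (E.obj a) := fun a =>
    quasiSeparatedSpace_of_quasiSeparated a.unop.1.subschemeι
  haveI : ∀ a, LocallyOfFiniteType (h.app a) := fun a =>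
    inferInstanceAs (LocallyOfFiniteType (a.unop.1.subschemeι ≫ p))
  have hcl : ∀ {a b} (φ : a ⟶ b), IsClosedImmersion (LimH13.graphMap h φ) := fun {a b} φ => by
    haveI : IsClosedImmersion (LimH13.graphMap h φ ≫ Limits.pullback.fst _ _) := by
      rw [LimH13.graphMap_fst]
      infer_instance
    haveI : IsSeparated (Limits.pullback.fst (h.app b)
        (((Functor.const (LimH13.FGIdx i.ker)ᵒᵖ).obj S).map φ)) :=
      MorphismProperty.pullback_fst _ _ (inferInstanceAs (IsSeparated (𝟙 S)))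
    exact IsClosedImmersion.of_comp (LimH13.graphMap h φ) (Limits.pullback.fst _ _)
  obtain ⟨a₀⟩ : Nonempty (LimH13.FGIdx i.ker)ᵒᵖ := ⟨Opposite.op (Classical.arbitrary _)⟩
  haveI : IsSeparated (h.app a₀) := inferInstanceAs (IsSeparated (a₀.unop.1.subschemeι ≫ p))
  haveI : ∀ a, IsAffineHom ((𝟙 _ : (Functor.const (LimH13.FGIdx i.ker)ᵒᵖ).obj S ⟶ _).app a) := fun a =>
    inferInstanceAs (IsAffineHom (𝟙 S))
  haveI : ∀ {a b : (LimH13.FGIdx i.ker)ᵒᵖ} (φ : a ⟶ b),
      IsAffineHom (((Functor.const (LimH13.FGIdx i.ker)ᵒᵖ).obj S).map φ) := fun φ =>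
    inferInstanceAs (IsAffineHom (𝟙 S))
  haveI : IsProper (i ≫ p : cX.pt ⟶ (LimH13.constCone (I := (LimH13.FGIdx i.ker)ᵒᵖ) S).pt) := hp
  obtain ⟨a₁, -, ha₁⟩ := LimH13.exists_isProper_app h (𝟙 _) hcX (LimH13.isLimitConstCone S) hcl a₀ (i ≫ p)
    fun a => by
      change (i ≫ p) ≫ 𝟙 S = IsClosedImmersion.lift a.unop.1.subschemeι i _ ≫ a.unop.1.subschemeι ≫ p
      rw [Category.comp_id, IsClosedImmersion.lift_fac_assoc]
  let ι := a₁.unop.1.subschemeι
  haveI := LimH13.locallyOfFinitePresentation_subschemeι a₁.unop.2.1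
  haveI : IsProper (ι ≫ p) := ha₁ a₁ (𝟙 _)
  refine ⟨Set.range ι, ?_, ι.isClosedEmbedding.isClosed_range,
    LimH13.isProperOver_of_isProper p ι rfl, ?_⟩
  · rintro z hz
    obtain ⟨t, rfl⟩ := hr.ge hz
    exact ⟨(IsClosedImmersion.lift ι i (by
        rw [Scheme.IdealSheafData.ker_subschemeι]; exact a₁.unop.2.2)) t,
      (Scheme.Hom.comp_apply _ _ _).symm.trans (by rw [IsClosedImmersion.lift_fac])⟩
  · have hc : Topology.IsConstructible (Set.range ι) := by
      rw [← Set.image_univ]
      exact ι.isConstructible_image Topology.IsConstructible.univ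
    exact Constr24.isCompact_constructible hc.compl

end Groth.Agent.EtShriek24
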