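import Groth.Agent.Lib.EtShriek24.Sheaf
import Groth.Agent.Lib.EtShriek24.ProperNbhd
import Groth.Agent.Lib.EtColim.Sections24

/-!
# Direct image with proper support commutes with filtered colimits
-/

universe u

set_option maxHeartbeats 800000

open CategoryTheory CategoryTheory.Limits AlgebraicGeometry Opposite
open Groth.Agent.EtStalk Groth.Agent.EtSite

namespace Groth.Agent.EtShriek24

section

variable {X : Scheme.{u}} (F : EtCoh.Ab X) (U : X.Etale)

/-- Two sections vanishing on the overlap of two opens covering an étale scheme glue. -/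
theorem exists_glue_zero (A B : U.left.Opens) (hAB : ∀ z, z ∈ A ∨ z ∈ B)
    (s : F.obj.obj (op (sub U A)))
    (hs : ∀ (W : X.Etale) (g : W ⟶ sub U A), (∀ w, A.ι (g.left w) ∈ B) → F.obj.map g.op s = 0) :
    ∃ t : F.obj.obj (op U), F.obj.map (subHom U A).op t = s ∧ F.obj.map (subHom U B).op t = 0 := by
  let P : ULift.{u} Bool → U.left.Opens := fun b => if b.down then A else B
  have hP : ∀ z, ∃ l, z ∈ P l := fun z => by
    rcases hAB z with h | h
    · exact ⟨⟨true⟩, h⟩
    · exact ⟨⟨false⟩, h⟩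
  let σ : ∀ l, F.obj.obj (op (sub U (P l))) := fun l =>
    match l with
    | ⟨true⟩ => s
    | ⟨false⟩ => 0
  have hsh := (Presieve.isSheafFor_iff_generate _).2
    (((isSheaf_iff_isSheaf_of_type _ _).1
      ((Presheaf.isSheaf_iff_isSheaf_forget _ F.obj (forget _)).1 F.property)) _
        (generate_parts_mem U P hP))
  rw [Presieve.isSheafFor_arrows_iff] at hsh
  obtain ⟨t, ht, -⟩ := hsh σ fun i j Z gi gj h => by
    have hpt : ∀ z, (P i).ι (gi.left z) = (P j).ι (gj.left z) := fun z =>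
      (Scheme.Hom.comp_apply _ _ _).symm.trans
        ((congrArg (fun t : Z.left ⟶ U.left => t z) (congrArg (fun t => t.left) h)).trans
          (Scheme.Hom.comp_apply _ _ _))
    match i, j, gi, gj, h, hpt with
    | ⟨true⟩, ⟨true⟩, gi, gj, h, _ =>
      have : Mono (subHom U A) := (MorphismProperty.Over.forget _ _ _).mono_of_mono_map
        ((Over.forget X).mono_of_mono_map (inferInstanceAs (Mono A.ι)))
      have e : gi = gj := (cancel_mono (subHom U A)).1 h
      subst e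
      rfl
    | ⟨true⟩, ⟨false⟩, gi, gj, h, hpt =>
      exact (hs Z gi fun w => (congrArg (· ∈ B) (hpt w)).mpr (gj.left w).2).trans (map_zero (F.obj.map gj.op).hom).symm
    | ⟨false⟩, ⟨true⟩, gi, gj, h, hpt =>
      exact (map_zero (F.obj.map gi.op).hom).trans (hs Z gj fun w => (congrArg (· ∈ B) (hpt w)).mp (gi.left w).2).symm
    | ⟨false⟩, ⟨false⟩, gi, gj, h, hpt => exact (map_zero (F.obj.map gi.op).hom).trans (map_zero (F.obj.map gj.op).hom).symm
  exact ⟨t, ht ⟨true⟩, ht ⟨false⟩⟩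

theorem notMem_sectSupp_of_map_eq_zero {W : X.Etale} (g : W ⟶ U) (s : EtCoh.sect F U)
    (h : F.obj.map g.op s = 0) {z : U.left} (hz : z ∈ Set.range g.left) :
    z ∉ EtShriek.sectSupp F U s :=
  fun hs => hs W g hz h

theorem map_eq_zero_of_disjoint {W : X.Etale} (g : W ⟶ U) (s : EtCoh.sect F U)
    (h : ∀ w, g.left w ∉ EtShriek.sectSupp F U s) : F.obj.map g.op s = 0 := by
  refine eq_of_agree F fun w => ?_
  by_contra hw
  have h1 : w ∈ EtShriek.sectSupp F W (F.obj.map g.op s) := by rw [sectSupp_eq]; exact hw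
  rw [sectSupp_map] at h1
  exact h w h1

end

variable {X S : Scheme.{u}} (f : X ⟶ S) [IsSeparated f] [LocallyOfFiniteType f]

omit f in
theorem exists_affine_fib {Ω : Type u} [Field Ω] [IsSepClosed Ω] {η : Spec (CommRingCat.of Ω) ⟶ S}
    {W : S.Etale} (w : fib η W) :
    ∃ (W' : S.Etale) (g : W' ⟶ W) (u : fib η W'),
      (Scheme.pointSmallEtale η).fiber.map g u = w ∧ IsAffine W'.left := by
  let wl : Spec (CommRingCat.of Ω) ⟶ W.left := w.left
  obtain ⟨A, hA, hwA, -⟩ := exists_isAffineOpen_mem_and_subset (x := wl default) (U := (⊤ : W.left.Opens)) trivial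
  obtain ⟨c, hc⟩ := ExtShriek24.exists_lift_opens A wl hwA
  refine ⟨sub W A, subHom W A, Over.homMk c ?_, Over.OverMorphism.ext hc, hA⟩
  show c ≫ A.ι ≫ W.hom = η
  exact (Category.assoc _ _ _).symm.trans ((congrArg (· ≫ W.hom) hc).trans (Over.w w))

theorem exists_qc_open_superset (W : S.Etale) [IsAffine W.left] (Z : Set ((EtCoh.bc f).obj W).left)
    (hZ : ClSub.IsProperOver (EtShriek.prV f W) Z) :
    ∃ U₀ : ((EtCoh.bc f).obj W).left.Opens, Z ⊆ (U₀ : Set ((EtCoh.bc f).obj W).left) ∧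
      CompactSpace U₀.toScheme ∧ QuasiSeparatedSpace U₀.toScheme := by
  obtain ⟨T, i, hi, hr, hp⟩ := (ClSub24.isProperOver_iff_exists (pullback.fst W.hom f) Z).1 hZ
  haveI : CompactSpace ↥((𝟭 Scheme).obj W.left) := inferInstanceAs (CompactSpace W.left)
  haveI : QuasiSeparatedSpace ↥((𝟭 Scheme).obj W.left) := inferInstanceAs (QuasiSeparatedSpace W.left)
  haveI : CompactSpace T := QuasiCompact.compactSpace_of_compactSpace (i ≫ pullback.fst W.hom f)
  let B := pullback W.hom f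
  have hcov : ∀ z : B, ∃ A : B.Opens, IsAffineOpen A ∧ z ∈ A := fun z => by
    obtain ⟨A, hA, hz, -⟩ := exists_isAffineOpen_mem_and_subset (x := z) (U := (⊤ : B.Opens)) trivial
    exact ⟨A, hA, hz⟩
  choose A hA hmem using hcov
  obtain ⟨t, ht⟩ := (isCompact_range i.continuous).elim_finite_subcover (fun z => (A z : Set B))
    (fun z => (A z).2) (fun z _ => Set.mem_iUnion.2 ⟨z, hmem z⟩)
  refine ⟨⨆ z : t, A z.1, fun z hz => ?_, ?_, ?_⟩
  · obtain ⟨a, ha, hza⟩ := Set.mem_iUnion₂.1 (ht (hr.ge hz))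
    exact TopologicalSpace.Opens.mem_iSup.2 ⟨⟨a, ha⟩, hza⟩
  · refine isCompact_iff_compactSpace.1 ?_
    refine Eq.mpr (congrArg IsCompact (TopologicalSpace.Opens.coe_iSup _)) ?_
    exact isCompact_iUnion fun z => (hA z.1).isCompact
  · haveI : IsSeparated (pullback.fst W.hom f) := MorphismProperty.pullback_fst _ _ ‹_›
    let ι₀ : (⨆ z : t, A z.1 : B.Opens).toScheme ⟶ pullback W.hom f := (⨆ z : t, A z.1 : B.Opens).ι
    haveI : IsOpenImmersion ι₀ := inferInstanceAs (IsOpenImmersion (⨆ z : t, A z.1 : B.Opens).ι)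
    haveI hq : QuasiSeparated (ι₀ ≫ pullback.fst W.hom f) :=
      MorphismProperty.IsStableUnderComposition.comp_mem (P := @QuasiSeparated) ι₀ (pullback.fst W.hom f) inferInstance inferInstance
    exact @quasiSeparatedSpace_of_quasiSeparated _ _ (ι₀ ≫ pullback.fst W.hom f) _ hq

variable {J : Type u} [SmallCategory J] [IsFiltered J] {K : J ⥤ EtCoh.Ab X} {c : Cocone K}

theorem exists_map_eq_zero (hc : IsColimit c) (W : S.Etale) [IsAffine W.left] (j : J)
    (t : EtShriek.shriekSubgroup f (K.obj j) W)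
    (h : (c.ι.app j).hom.app (op ((EtCoh.bc f).obj W)) t.1 = 0) :
    ∃ (k : J) (a : j ⟶ k), (K.map a).hom.app (op ((EtCoh.bc f).obj W)) t.1 = 0 := by
  obtain ⟨U₀, hsub, hc₀, hq₀⟩ := exists_qc_open_superset f W _ ((mem_shriekSubgroup_iff f _ W _).1 t.2)
  let B := (EtCoh.bc f).obj W
  haveI : CompactSpace (sub B U₀).left := hc₀
  haveI : QuasiSeparatedSpace (sub B U₀).left := hq₀
  obtain ⟨k, a, hk⟩ := EtColim.exists_sec_eq (sub B U₀) hc j ((K.obj j).obj.map (subHom B U₀).op t.1) 0 (by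
    rw [map_zero, NatTrans.naturality_apply, h, map_zero])
  refine ⟨k, a, eq_of_agree _ fun z => ?_⟩
  rw [map_zero, NatTrans.naturality_apply] at hk
  by_contra hz
  have hz1 : z ∈ EtShriek.sectSupp (K.obj k) B ((K.map a).hom.app (op B) t.1) := by
    rw [sectSupp_eq]; exact hz
  have hzU : z ∈ U₀ := hsub (EtShriek.sectSupp_map_subset (K.map a) B t.1 hz1)
  exact notMem_sectSupp_of_map_eq_zero _ B (subHom B U₀) _ hk (show z ∈ Set.range U₀.ι by
    rw [U₀.range_ι]; exact hzU) hz1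

theorem exists_rep (hc : IsColimit c) (W : S.Etale) [IsAffine W.left]
    (s : EtShriek.shriekSubgroup f c.pt W) :
    ∃ (k : J) (t : EtShriek.shriekSubgroup f (K.obj k) W),
      (c.ι.app k).hom.app (op ((EtCoh.bc f).obj W)) t.1 = s.1 := by
  have hZ := (mem_shriekSubgroup_iff f _ W _).1 s.2
  obtain ⟨U₀, hsub, hc₀, hq₀⟩ := exists_qc_open_superset f W _ hZ
  let B := (EtCoh.bc f).obj W
  let pr : B.left ⟶ W.left := EtShriek.prV f W
  haveI : IsSeparated pr := inferInstanceAs (IsSeparated (pullback.fst W.hom f))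
  haveI : LocallyOfFiniteType pr := inferInstanceAs (LocallyOfFiniteType (pullback.fst W.hom f))
  haveI : CompactSpace U₀.toScheme := hc₀
  haveI : QuasiSeparatedSpace U₀.toScheme := hq₀
  haveI : CompactSpace (sub B U₀).left := hc₀
  haveI : QuasiSeparatedSpace (sub B U₀).left := hq₀
  obtain ⟨T, i, hi, hr, hp⟩ := (ClSub24.isProperOver_iff_exists pr _).1 hZ
  let i₀ : T ⟶ U₀.toScheme := IsOpenImmersion.lift U₀.ι i (by rw [U₀.range_ι, hr]; exact hsub)
  have hi₀ : i₀ ≫ U₀.ι = i := IsOpenImmersion.lift_fac _ _ _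
  haveI : IsClosedImmersion (i₀ ≫ U₀.ι) := by rw [hi₀]; exact hi
  haveI : IsClosedImmersion i₀ := IsClosedImmersion.of_comp i₀ U₀.ι
  haveI : IsProper (i₀ ≫ U₀.ι ≫ pr) := by rw [← Category.assoc, hi₀]; exact hp
  obtain ⟨Z', hZZ', hZ'c, hZ'p, hZ'k⟩ := exists_proper_superset (U₀.ι ≫ pr) (Set.range i₀)
    (LimH13.isProperOver_of_isProper (U₀.ι ≫ pr) i₀ rfl)
  obtain ⟨T', i', hi', hr', hp'⟩ := (ClSub24.isProperOver_iff_exists (U₀.ι ≫ pr) Z').1 hZ'p
  haveI : IsProper ((i' ≫ U₀.ι) ≫ pr) := by rw [Category.assoc]; exact hp'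
  haveI : IsProper (i' ≫ U₀.ι) := IsProper.of_comp (i' ≫ U₀.ι) pr
  haveI : Mono (i' ≫ U₀.ι) := inferInstance
  haveI : IsClosedImmersion (i' ≫ U₀.ι) :=
    (IsClosedImmersion.iff_isProper_and_mono _).mpr ⟨inferInstance, inferInstance⟩
  let Zs : Set B.left := Set.range (i' ≫ U₀.ι)
  have hZs : ClSub.IsProperOver pr Zs := LimH13.isProperOver_of_isProper pr (i' ≫ U₀.ι) rfl
  let C : B.left.Opens := ⟨Zsᶜ, (i' ≫ U₀.ι).isClosedEmbedding.isClosed_range.isOpen_compl⟩
  let U₁ : U₀.toScheme.Opens := ⟨Z'ᶜ, hZ'c.isOpen_compl⟩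
  let W₁ : X.Etale := sub (sub B U₀) U₁
  haveI : CompactSpace W₁.left := isCompact_iff_compactSpace.1 hZ'k
  haveI : QuasiSeparatedSpace W₁.left :=
    QuasiSeparatedSpace.of_isOpenEmbedding U₁.ι.isOpenEmbedding
  have hsZ : EtShriek.sectSupp c.pt B s.1 ⊆ Zs := fun z hz => by
    obtain ⟨a, rfl⟩ := hr.ge hz
    obtain ⟨b, hb⟩ := hr'.ge (hZZ' ⟨a, rfl⟩)
    exact ⟨b, by rw [Scheme.Hom.comp_apply, hb, ← Scheme.Hom.comp_apply, hi₀]⟩
  obtain ⟨j, t₀, ht₀⟩ := EtColim.exists_sec_rep (sub B U₀) hc (c.pt.obj.map (subHom B U₀).op s.1)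
  obtain ⟨k, a, hk⟩ := EtColim.exists_sec_eq W₁ hc j ((K.obj j).obj.map (subHom (sub B U₀) U₁).op t₀) 0 (by
    rw [map_zero, NatTrans.naturality_apply, ht₀]
    refine (Functor.map_comp_apply c.pt.obj _ _ _).symm.trans ?_
    rw [← op_comp]
    refine map_eq_zero_of_disjoint _ B _ _ fun w hw => ?_
    obtain ⟨b, hb⟩ := hsZ hw
    rw [Scheme.Hom.comp_apply] at hb
    exact w.2 (hr'.le ⟨b, U₀.ι.isOpenEmbedding.injective hb⟩))
  rw [map_zero, NatTrans.naturality_apply] at hk
  let tk := (K.map a).hom.app (op (sub B U₀)) t₀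
  have hcov : ∀ z, z ∈ U₀ ∨ z ∈ C := fun z => by
    by_cases hz : z ∈ Zs
    · obtain ⟨b, rfl⟩ := hz
      exact Or.inl (show _ ∈ U₀ by rw [Scheme.Hom.comp_apply]; exact (i' b).2)
    · exact Or.inr hz
  obtain ⟨t, ht1, ht2⟩ := exists_glue_zero (K.obj k) B U₀ C hcov tk fun V g hg =>
    map_eq_zero_of_disjoint _ _ g tk fun v hv => notMem_sectSupp_of_map_eq_zero _ _
      (subHom (sub B U₀) U₁) tk hk (show g.left v ∈ Set.range U₁.ι by
        rw [U₁.range_ι]
        intro hmem
        obtain ⟨b, hb⟩ := hr'.ge hmem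
        exact hg v ⟨b, by rw [Scheme.Hom.comp_apply, hb]⟩) hv
  have htsupp : EtShriek.sectSupp (K.obj k) B t ⊆ Zs := fun z hz => by
    by_contra hzZ
    exact notMem_sectSupp_of_map_eq_zero _ B (subHom B C) t ht2
      (show z ∈ Set.range C.ι by rw [C.range_ι]; exact hzZ) hz
  refine ⟨k, ⟨t, (mem_shriekSubgroup_iff f _ W t).2
    (ClSub24.isProperOver_subset (pullback.fst W.hom f) htsupp (isClosed_sectSupp _ _ _) hZs)⟩, ?_⟩
  refine eq_of_agree _ fun z => ?_
  by_cases hz : z ∈ U₀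
  · refine ⟨sub B U₀, subHom B U₀, show z ∈ Set.range U₀.ι by rw [U₀.range_ι]; exact hz, ?_⟩
    rw [← NatTrans.naturality_apply, ht1]
    refine Eq.trans ?_ ht₀
    exact ConcreteCategory.congr_hom (congrArg (fun φ : K.obj j ⟶ c.pt => φ.hom.app (op (sub B U₀))) (c.w a)) t₀
  · refine ⟨sub B C, subHom B C, show z ∈ Set.range C.ι by
      rw [C.range_ι]
      rintro ⟨b, rfl⟩
      exact hz (by rw [Scheme.Hom.comp_apply]; exact (i' b).2), ?_⟩
    rw [← NatTrans.naturality_apply, ht2, map_zero]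
    refine (map_eq_zero_of_disjoint _ B _ _ fun w hw => ?_).symm
    exact w.2 (hsZ hw)

omit [SmallCategory J] [IsFiltered J] in
theorem preservesFilteredColimits_shFunctor :
    PreservesFilteredColimitsOfSize.{u, u} (shFunctor f) := by
  refine ⟨fun J _ _ => ⟨fun {K} => ?_⟩⟩
  haveI : IsIso (colimit.post K (shFunctor f)) := by
    rw [isIso_iff_stalk_alg]
    intro Ω _ _ η
    let hL := isColimitOfPreserves (EtCoh.stalk η) (colimit.isColimit (K ⋙ shFunctor f))
    have hpost : ∀ j (W : S.Etale) (w : fib η W) (t : ((shFunctor f).obj (K.obj j)).obj.obj (op W)),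
        (EtCoh.stalk η).map (colimit.post K (shFunctor f))
          ((EtCoh.stalk η).map (colimit.ι (K ⋙ shFunctor f) j) (germ η ((shFunctor f).obj (K.obj j)) w t)) =
        germ η ((shFunctor f).obj (colimit K)) w (((shFunctor f).map (colimit.ι K j)).hom.app (op W) t) := by
      intro j W w t
      rw [← Functor.map_comp_apply, colimit.ι_post]
      exact germ_nat η _ w t
    refine ⟨(injective_iff_map_eq_zero ((EtCoh.stalk η).map _).hom).2 fun q hq => ?_, fun q => ?_⟩
    · obtain ⟨j, q', rfl⟩ := Concrete.isColimit_exists_rep _ hL q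
      obtain ⟨W₀, w₀, t₀, rfl⟩ := germ_surjective η _ q'
      replace hq := (hpost j W₀ w₀ t₀).symm.trans hq
      obtain ⟨W₁, g, u, hu, he⟩ :=
        (germ_eq_iff η _ w₀ _ 0).1 (hq.trans (map_zero _).symm)
      obtain ⟨W, g', w, hw, hWaff⟩ := exists_affine_fib u
      haveI := hWaff
      let t := ((shFunctor f).obj (K.obj j)).obj.map (g' ≫ g).op t₀
      have hu' : (Scheme.pointSmallEtale η).fiber.map (g' ≫ g) w = w₀ := by
        rw [Functor.map_comp]; exact (congrArg _ hw).trans hu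
      have ht : ((shFunctor f).map (colimit.ι K j)).hom.app (op W) t = 0 := by
        show ((shFunctor f).map (colimit.ι K j)).hom.app (op W) (((shFunctor f).obj (K.obj j)).obj.map _ t₀) = 0
        rw [NatTrans.naturality_apply, op_comp, Functor.map_comp_apply, he, ← Functor.map_comp_apply, map_zero]
      obtain ⟨k, a, hk⟩ := exists_map_eq_zero f (colimit.isColimit K) W j t (congrArg Subtype.val ht)
      have hka : ((shFunctor f).map (K.map a)).hom.app (op W) t = 0 := Subtype.ext hk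
      show (EtCoh.stalk η).map (colimit.ι (K ⋙ shFunctor f) j) (germ η _ w₀ t₀) = 0
      rw [← colimit.w (K ⋙ shFunctor f) a, Functor.map_comp_apply, ← hu', ← germ_map]
      refine (congrArg _ ((germ_nat η ((shFunctor f).map (K.map a)) w t).trans ?_)).trans (map_zero _)
      rw [hka, map_zero]
    · obtain ⟨W₀, w₀, s₀, rfl⟩ := germ_surjective η _ q
      obtain ⟨W, g, w, hw, hWaff⟩ := exists_affine_fib w₀
      haveI := hWaff
      obtain ⟨k, t, ht⟩ := exists_rep f (colimit.isColimit K) W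
        (((shFunctor f).obj (colimit K)).obj.map g.op s₀)
      refine ⟨(EtCoh.stalk η).map (colimit.ι (K ⋙ shFunctor f) k) (germ η _ w t), ?_⟩
      refine (hpost k W w t).trans ?_
      rw [← hw, ← germ_map]
      exact congrArg (germ η _ w) (Subtype.ext ht)
  exact preservesColimit_of_isIso_post (shFunctor f) K

omit [SmallCategory J] [IsFiltered J] in
theorem preservesFilteredColimits_lowerShriek :
    PreservesFilteredColimitsOfSize.{u, u} (EtShriek.lowerShriek f) := by
  haveI := preservesFilteredColimits_shFunctor f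
  exact ⟨fun J _ _ => preservesColimitsOfShape_of_natIso (shIso f).symm⟩

end Groth.Agent.EtShriek24
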