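import Mathlib.AlgebraicGeometry.ResidueField

/-!
# Field valued points with the same image and trivial residue extension
-/

universe u

open CategoryTheory AlgebraicGeometry

namespace Groth.Agent.EtShriek24

theorem fieldPt_eq_of_residueFieldMap_bijective {A B : Scheme.{u}} (f : A ⟶ B) {Ω : Type u} [Field Ω]
    (y₁ y₂ : Spec (CommRingCat.of Ω) ⟶ A) (hpt : y₁ default = y₂ default)
    (hb : Function.Bijective (f.residueFieldMap (y₁ default))) (hc : y₁ ≫ f = y₂ ≫ f) : y₁ = y₂ := by
  obtain ⟨⟨z₁, φ₁⟩, h₁⟩ := (Scheme.SpecToEquivOfField Ω A).symm.surjective y₁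
  obtain ⟨⟨z₂, φ₂⟩, h₂⟩ := (Scheme.SpecToEquivOfField Ω A).symm.surjective y₂
  change Spec.map φ₁ ≫ A.fromSpecResidueField z₁ = y₁ at h₁
  change Spec.map φ₂ ≫ A.fromSpecResidueField z₂ = y₂ at h₂
  subst h₁ h₂
  rw [Scheme.Hom.comp_apply, Scheme.Hom.comp_apply, Scheme.fromSpecResidueField_apply,
    Scheme.fromSpecResidueField_apply] at hpt
  subst hpt
  rw [Scheme.Hom.comp_apply, Scheme.fromSpecResidueField_apply] at hb
  rw [Category.assoc, Category.assoc, ← Scheme.Hom.SpecMap_residueFieldMap_fromSpecResidueField,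
    ← Spec.map_comp_assoc, ← Spec.map_comp_assoc] at hc
  have h3 := Spec.map_injective ((cancel_mono (B.fromSpecResidueField _)).1 hc)
  haveI : IsIso (f.residueFieldMap z₁) := (ConcreteCategory.isIso_iff_bijective _).2 hb
  rw [(cancel_epi (f.residueFieldMap z₁)).1 h3]

end Groth.Agent.EtShriek24
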