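import Groth.Agent.Lib.EtShriek24.Supp
import Groth.Agent.Lib.EtStalk.FiniteStalk
import Mathlib.CategoryTheory.Preadditive.LeftExact

/-!
# Direct image with proper support as a subsheaf of the direct image
-/

universe u

set_option maxHeartbeats 800000

open CategoryTheory CategoryTheory.Limits AlgebraicGeometry Opposite
open Groth.Agent.EtStalk

namespace Groth.Agent.EtShriek24

variable {X Y : Scheme.{u}} (f : X ⟶ Y) [LocallyOfFiniteType f]

/-- Sections with proper support, as a functor to sheaves. -/
noncomputable def shFunctor : EtCoh.Ab X ⥤ EtCoh.Ab Y where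
  obj F := ⟨EtShriek.lowerShriekPre f F, isSheaf_lowerShriekPre f F⟩
  map α := ⟨(EtShriek.lowerShriekPreFunctor f).map α⟩
  map_id F := Sheaf.hom_ext ((EtShriek.lowerShriekPreFunctor f).map_id F)
  map_comp α β := Sheaf.hom_ext ((EtShriek.lowerShriekPreFunctor f).map_comp α β)

/-- The inclusion in the direct image. -/
noncomputable def shι : shFunctor f ⟶ EtCoh.push f where
  app F := ⟨EtShriek.lowerShriekPreι f F⟩
  naturality F G α := by
    refine Sheaf.hom_ext (NatTrans.ext (funext fun V => AddCommGrpCat.ext fun s => ?_))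
    rfl

theorem shι_app_injective (F : EtCoh.Ab X) (V : Y.Etaleᵒᵖ) :
    Function.Injective (((shι f).app F).hom.app V) :=
  fun _ _ h => Subtype.ext h

instance mono_shι_app (F : EtCoh.Ab X) : Mono ((shι f).app F) :=
  (EtStalk.mono_iff_app_injective _).2 (shι_app_injective f F)

instance additive_shFunctor : (shFunctor f).Additive where
  map_add {F G} {α β} := by
    refine Sheaf.hom_ext (NatTrans.ext (funext fun V => AddCommGrpCat.ext fun s => Subtype.ext ?_))
    rfl

theorem sectSupp_of_mono {F G : EtCoh.Ab X} (α : F ⟶ G) [Mono α] (U : X.Etale) (s : EtCoh.sect F U) :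
    EtShriek.sectSupp G U (α.hom.app (op U) s) = EtShriek.sectSupp F U s := by
  refine (EtShriek.sectSupp_map_subset α U s).antisymm fun x hx W g hw hs => hx W g hw ?_
  refine (EtStalk.mono_iff_app_injective α).1 ‹_› (op W) ?_
  rw [map_zero, NatTrans.naturality_apply, hs]

/-- Sections with proper support form a left exact functor. -/
instance preservesKernel_shFunctor {F G : EtCoh.Ab X} (α : F ⟶ G) :
    PreservesLimit (parallelPair α 0) (shFunctor f) := by
  refine preservesLimit_of_preserves_limit_cone (kernelIsKernel α)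
    ((KernelFork.isLimitMapConeEquiv _ (shFunctor f)).symm ?_)
  let K := kernel α
  let κ : K ⟶ F := kernel.ι α
  haveI : Mono ((shFunctor f).map κ) := by
    haveI : (EtCoh.push f).IsRightAdjoint := (EtCoh.pullPushAdj f).isRightAdjoint
    refine mono_of_mono_fac (h := (shι f).app K ≫ (EtCoh.push f).map κ) ((shι f).naturality κ)
  have h0 : (shFunctor f).map κ ≫ (shFunctor f).map α = 0 := by
    rw [← Functor.map_comp, kernel.condition, Functor.map_zero]
  suffices H : IsLimit (KernelFork.ofι ((shFunctor f).map κ) h0) from H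
  refine KernelFork.IsLimit.ofι' _ _ fun {W} k hk => ?_
  haveI : (EtCoh.push f).IsRightAdjoint := (EtCoh.pullPushAdj f).isRightAdjoint
  have hlim := (KernelFork.isLimitMapConeEquiv _ (EtCoh.push f))
    (isLimitOfPreserves (EtCoh.push f) (kernelIsKernel α))
  let lt := KernelFork.IsLimit.lift' hlim (k ≫ (shι f).app F) (by
    rw [Category.assoc, ← (shι f).naturality α, ← Category.assoc, hk, zero_comp])
  let t : W ⟶ (EtCoh.push f).obj K := lt.1
  have ht : t ≫ (EtCoh.push f).map κ = k ≫ (shι f).app F := lt.2
  have hmem : ∀ (V : Y.Etaleᵒᵖ) w, t.hom.app V w ∈ EtShriek.shriekSubgroup f K V.unop := fun V w => by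
    refine (mem_shriekSubgroup_iff f K V.unop _).2 (Eq.mp (congrArg
      (ClSub.IsProperOver (EtShriek.prV f V.unop)) (sectSupp_of_mono κ _ _)) ?_)
    have e : κ.hom.app _ (t.hom.app V w) = (k.hom.app V w).1 :=
      ConcreteCategory.congr_hom (congrArg (fun r : W ⟶ (EtCoh.push f).obj F => r.hom.app V) ht) w
    refine Eq.mp (congrArg (fun s => ClSub.IsProperOver (EtShriek.prV f V.unop)
      (EtShriek.sectSupp F _ s)) e.symm) ?_
    exact (mem_shriekSubgroup_iff f F V.unop _).1 (k.hom.app V w).2
  let L : W.obj ⟶ EtShriek.lowerShriekPre f K :=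
    { app := fun V => AddCommGrpCat.ofHom
        ((t.hom.app V).hom.codRestrict (EtShriek.shriekSubgroup f K V.unop) (hmem V))
      naturality := fun V V' φ => AddCommGrpCat.ext fun w => Subtype.ext
        (NatTrans.naturality_apply t.hom φ w) }
  refine ⟨⟨L⟩, ?_⟩
  refine Sheaf.hom_ext (NatTrans.ext (funext fun V => AddCommGrpCat.ext fun w => Subtype.ext ?_))
  exact ConcreteCategory.congr_hom (congrArg (fun r : W ⟶ (EtCoh.push f).obj F => r.hom.app V) ht) w

instance preservesFiniteLimits_shFunctor : PreservesFiniteLimits (shFunctor f) :=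
  Functor.preservesFiniteLimits_of_preservesKernels (shFunctor f)

/-- Sheafification does not change sections with proper support. -/
noncomputable def shIso : EtShriek.lowerShriek f ≅ shFunctor f :=
  NatIso.ofComponents
    (fun F => @asIso _ _ _ _ ((sheafificationAdjunction Y.smallEtaleTopology AddCommGrpCat.{u + 1}).counit.app
      ((shFunctor f).obj F)) (isIso_sheafificationAdjunction_counit _))
    (fun α => (sheafificationAdjunction Y.smallEtaleTopology AddCommGrpCat.{u + 1}).counit.naturality
      ((shFunctor f).map α))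

theorem lowerShriekToPush_eq (F : EtCoh.Ab X) :
    EtShriek.lowerShriekToPush f F = (shIso f).hom.app F ≫ (shι f).app F := by
  let adj := sheafificationAdjunction Y.smallEtaleTopology AddCommGrpCat.{u + 1}
  refine ((adj.homEquiv _ _).symm_apply_eq).2 ?_
  refine (Eq.trans (adj.homEquiv_unit (EtShriek.lowerShriekPre f F) ((EtCoh.push f).obj F) _) ?_).symm
  refine (congrArg (adj.unit.app (EtShriek.lowerShriekPre f F) ≫ ·) ((sheafToPresheaf _ _).map_comp
    ((shIso f).hom.app F) ((shι f).app F))).trans ?_
  refine (Category.assoc _ _ _).symm.trans ?_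
  refine (congrArg (· ≫ _) (adj.right_triangle_components ((shFunctor f).obj F))).trans ?_
  exact Category.id_comp _

theorem preservesFiniteLimits_lowerShriek : PreservesFiniteLimits (EtShriek.lowerShriek f) :=
  preservesFiniteLimits_of_natIso (shIso f).symm

end Groth.Agent.EtShriek24
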