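import Groth.Agent.Lib.EtShriek24.Sheaf
import Groth.Agent.Lib.ExtShriek24.ToPush

/-!
# Stalks of direct images with proper support along separated locally quasi-finite morphisms
-/

universe u

set_option maxHeartbeats 800000

open CategoryTheory CategoryTheory.Limits AlgebraicGeometry Opposite
open Groth.Agent.EtStalk Groth.Agent.EtSite Groth.Agent.Weight

namespace Groth.Agent.EtShriek24

theorem pt_eq_default {Z : Scheme.{u}} {K : Type u} [Field K] (a : Spec (CommRingCat.of K) ⟶ Z) :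
    pt a = a default := congrArg a (Subsingleton.elim _ _)

variable {X Y : Scheme.{u}} (f : X ⟶ Y) [LocallyOfFiniteType f]
  {Ω : Type u} [Field Ω] [IsAlgClosed Ω] (η : Spec (CommRingCat.of Ω) ⟶ Y)

/-- The family of germs at the points above a geometric point. -/
noncomputable def phi (F : EtCoh.Ab X) :
    ((EtCoh.stalk η).obj ((shFunctor f).obj F) : Type (u + 1)) →+
      ∀ l : fLifts f η, (EtCoh.stalk l.1).obj F :=
  AddMonoidHom.mk' (fun p l => liftStalk f η l F ((EtCoh.stalk η).map ((shι f).app F) p))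
    (fun p q => funext fun l => by simp only [map_add, Pi.add_apply])

theorem phi_germ (F : EtCoh.Ab X) {W : Y.Etale} (w : fib η W)
    (s : EtShriek.shriekSubgroup f F W) (l : fLifts f η) :
    phi f η F (germ η ((shFunctor f).obj F) w s) l = germ l.1 F (liftAt f η w l) s.1 := by
  refine (congrArg (liftStalk f η l F) (germ_nat η ((shι f).app F) w s)).trans ?_
  exact liftStalk_germ f η l F w _

theorem phi_nat {F G : EtCoh.Ab X} (α : F ⟶ G)
    (p : (EtCoh.stalk η).obj ((shFunctor f).obj F)) (l : fLifts f η) :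
    phi f η G ((EtCoh.stalk η).map ((shFunctor f).map α) p) l =
      (EtCoh.stalk l.1).map α (phi f η F p l) := by
  refine Eq.trans (congrArg (liftStalk f η l G) ?_) (liftStalk_nat f η l α _)
  rw [← Functor.map_comp_apply, (shι f).naturality, Functor.map_comp_apply]

theorem germ_ne_zero_mem (F : EtCoh.Ab X) {l : fLifts f η} {U : X.Etale} (φ : fib l.1 U)
    (s : EtCoh.sect F U) :
    germ l.1 F φ s ≠ 0 ↔ fibPt φ ∈ EtShriek.sectSupp F U s := by
  rw [sectSupp_eq, Set.mem_compl_iff, mem_agree_iff_germ, map_zero]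

variable [LocallyQuasiFinite f]

theorem phi_injective (F : EtCoh.Ab X) : Function.Injective (phi f η F) := by
  refine (injective_iff_map_eq_zero (phi f η F)).2 fun p hp => ?_
  obtain ⟨W, w, s, rfl⟩ := germ_surjective η _ p
  let Z := EtShriek.sectSupp F _ (s : EtShriek.shriekSubgroup f F W).1
  have hZ : ClSub.IsProperOver (EtShriek.prV f W) Z := (mem_shriekSubgroup_iff f F W _).1 s.2
  obtain ⟨T, i, hi, hr, hpT⟩ := (ClSub24.isProperOver_iff_exists (pullback.fst W.hom f) Z).1 hZ
  let wl : Spec (CommRingCat.of Ω) ⟶ W.left := w.left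
  have hout : ∀ z ∈ Z, EtShriek.prV f W z ≠ wl default := fun z hz hzw => by
    obtain ⟨b, hb, hbz⟩ := exists_lift_of_eq (pullback.fst W.hom f) z
      ((pullback.fst W.hom f).quasiFiniteAt z) wl (hzw.trans (pt_eq_default wl).symm)
    have hl : (b ≫ pullback.snd W.hom f) ≫ f = η :=
      (Category.assoc _ _ _).trans ((congrArg (b ≫ ·) pullback.condition.symm).trans
        ((Category.assoc _ _ _).symm.trans ((congrArg (· ≫ W.hom) hb).trans (Over.w w))))
    let l : fLifts f η := ⟨_, hl⟩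
    have hbl : (liftAt f η w l).left = b :=
      pullback.hom_ext ((pullback.lift_fst _ _ _).trans hb.symm) (pullback.lift_snd _ _ _)
    refine (germ_ne_zero_mem f η F (liftAt f η w l) _).2 ?_ ((phi_germ f η F w s l).symm.trans (congrFun hp l))
    refine Eq.mpr (congrArg (fun r : Spec (CommRingCat.of Ω) ⟶ _ => r default ∈ Z) hbl) ?_
    exact Eq.mpr (congrArg (· ∈ Z) ((pt_eq_default b).symm.trans hbz)) hz
  let A : W.left.Opens := ⟨(Set.range (i ≫ pullback.fst W.hom f))ᶜ,
    (i ≫ pullback.fst W.hom f).isClosedMap.isClosed_range.isOpen_compl⟩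
  have hA : wl default ∈ A := by
    rintro ⟨t, ht⟩
    exact hout (i t) (hr.le ⟨t, rfl⟩) ((Scheme.Hom.comp_apply _ _ _).symm.trans ht)
  obtain ⟨c, hc⟩ := ExtShriek24.exists_lift_opens A wl hA
  let u : fib η (sub W A) := Over.homMk c (by
    show c ≫ A.ι ≫ W.hom = η
    exact (Category.assoc _ _ _).symm.trans ((congrArg (· ≫ W.hom) hc).trans (Over.w w)))
  have hu : (Scheme.pointSmallEtale η).fiber.map (subHom W A) u = w := Over.OverMorphism.ext hc
  have h0 : ((shFunctor f).obj F).obj.map (subHom W A).op s = 0 := by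
    refine Subtype.ext (eq_of_agree F fun x => ?_)
    have h := (mem_agree_map F ((EtCoh.bc f).map (subHom W A)) s.1 0 x).2 ?_
    · rwa [map_zero] at h
    · by_contra hx
      have hxZ : ((EtCoh.bc f).map (subHom W A)).left x ∈ Z := by
        show _ ∈ EtShriek.sectSupp F _ _
        rw [sectSupp_eq]; exact hx
      obtain ⟨t, ht⟩ := hr.ge hxZ
      have hA' : pullback.fst W.hom f (((EtCoh.bc f).map (subHom W A)).left x) ∈ A := by
        have e : ((EtCoh.bc f).map (subHom W A)).left ≫ pullback.fst W.hom f =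
            pullback.fst (sub W A).hom f ≫ A.ι := (EtCoh.isPullback_bc_map f (subHom W A)).w
        have e2 := (Scheme.Hom.comp_apply _ _ _).symm.trans
          ((congrArg (fun r : ((EtCoh.bc f).obj (sub W A)).left ⟶ W.left => r x) e).trans
            (Scheme.Hom.comp_apply _ _ _))
        exact Eq.mpr (congrArg (· ∈ A) e2) (pullback.fst (sub W A).hom f x).2
      exact hA' ⟨t, (Scheme.Hom.comp_apply _ _ _).trans (congrArg _ ht)⟩
  rw [← hu, ← germ_map, h0, map_zero]

theorem phi_finite_support (F : EtCoh.Ab X) (p : (EtCoh.stalk η).obj ((shFunctor f).obj F)) :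
    {l | phi f η F p l ≠ 0}.Finite := by
  obtain ⟨W, w, s, rfl⟩ := germ_surjective η _ p
  let Z := EtShriek.sectSupp F _ (s : EtShriek.shriekSubgroup f F W).1
  have hZ : ClSub.IsProperOver (EtShriek.prV f W) Z := (mem_shriekSubgroup_iff f F W _).1 s.2
  obtain ⟨T, i, hi, hr, hpT⟩ := (ClSub24.isProperOver_iff_exists (pullback.fst W.hom f) Z).1 hZ
  haveI : IsFinite (i ≫ pullback.fst W.hom f) :=
    IsFinite.of_isProper_of_locallyQuasiFinite _
  let wl : Spec (CommRingCat.of Ω) ⟶ W.left := w.left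
  let P := pullback.fst W.hom f
  let B : Set (Spec (CommRingCat.of Ω) ⟶ ((EtCoh.bc f).obj W).left) :=
    ⋃ z ∈ i '' ((i ≫ P) ⁻¹' {pt wl}), {b | b ≫ P = wl ∧ pt b = z}
  have hB : B.Finite := by
    refine (((i ≫ P).finite_preimage_singleton _).image i).biUnion fun z hz => ?_
    obtain ⟨t, ht, rfl⟩ := hz
    exact Set.finite_coe_iff.1 (natCard_lifts_over P (i t) (P.quasiFiniteAt _) wl
      ((Scheme.Hom.comp_apply _ _ _).symm.trans ht)).2
  refine Set.Finite.subset (hB.preimage (f := fun l => (liftAt f η w l).left) fun a _ b _ h => ?_)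
    fun l hl => ?_
  · have h1 := congrArg (· ≫ pullback.snd W.hom f) h
    exact Subtype.ext ((pullback.lift_snd _ _ _).symm.trans (h1.trans (pullback.lift_snd _ _ _)))
  · have hl' : germ l.1 F (liftAt f η w l) s.1 ≠ 0 := fun h => hl ((phi_germ f η F w s l).trans h)
    obtain ⟨t, ht⟩ := hr.ge ((germ_ne_zero_mem f η F _ _).1 hl')
    have h1 : (liftAt f η w l).left ≫ P = wl := liftAt_left_fst f η w l
    refine Set.mem_biUnion (x := pt (liftAt f η w l).left) ⟨t, ?_, ht.trans (pt_eq_default _).symm⟩ ⟨h1, rfl⟩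
    show (i ≫ P) t = pt wl
    rw [Scheme.Hom.comp_apply, ht, pt_eq_default wl]
    exact (Scheme.Hom.comp_apply _ _ _).symm.trans
      (congrArg (fun r : Spec (CommRingCat.of Ω) ⟶ W.left => r default) h1)

open scoped Classical in
theorem exists_single [IsSeparated f] (F : EtCoh.Ab X) (l : fLifts f η)
    (q : (EtCoh.stalk l.1).obj F) :
    ∃ p, phi f η F p = Pi.single (M := fun l : fLifts f η => (EtCoh.stalk l.1).obj F) l q := by
  obtain ⟨V, y, t, rfl⟩ := germ_surjective l.1 F q
  obtain ⟨U, g, ū, W, hg, hū, hWfin, hW⟩ := exists_split_one f l.1 (f.quasiFiniteAt _)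
  haveI := hg
  haveI := hWfin
  let p := W.ι ≫ pullback.snd f g
  let r : W.toScheme ⟶ X := W.ι ≫ pullback.fst f g
  obtain ⟨b₁, hb₁f, hb₁s, hb₁W⟩ := inLift_iff.1 ((hW l.1).2 rfl)
  let a : Spec (CommRingCat.of Ω) ⟶ W.toScheme := liftOpen W b₁ hb₁W
  have hap : a ≫ p = ū := by
    show a ≫ W.ι ≫ _ = _
    rw [← Category.assoc, liftOpen_ι, hb₁s]
  have har : a ≫ r = l.1 := by
    show a ≫ W.ι ≫ _ = _
    rw [← Category.assoc, liftOpen_ι, hb₁f]
  have huniq : ∀ b : Spec (CommRingCat.of Ω) ⟶ W.toScheme, b ≫ p = a ≫ p → b = a := fun b hb => by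
    rw [hap] at hb
    have h2 : (b ≫ W.ι) ≫ pullback.snd f g = ū := (Category.assoc _ _ _).trans hb
    have h3 := (hW ((b ≫ W.ι) ≫ pullback.fst f g)).1
      (inLift_iff.2 ⟨b ≫ W.ι, rfl, h2, (b (IsLocalRing.closedPoint Ω)).2⟩)
    rw [← cancel_mono W.ι, liftOpen_ι]
    exact pullback.hom_ext (h3.trans hb₁f.symm) (h2.trans hb₁s.symm)
  let yl : Spec (CommRingCat.of Ω) ⟶ V.left := y.left
  have hyl : yl ≫ V.hom = a ≫ r := (Over.w y).trans har.symm
  haveI : AlgebraicGeometry.Etale V.hom := V.prop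
  obtain ⟨U', h, ū', σ, hh, hū', hσ, hσc⟩ := FiniteSplit.exists_section p a huniq
    (pullback.snd V.hom r) (pullback.lift yl a hyl) (pullback.lift_snd _ _ _)
  haveI := hh
  rw [hap] at hū'
  let V' : Y.Etale := MorphismProperty.Over.mk ⊤ (h ≫ g)
    (inferInstance : AlgebraicGeometry.Etale (h ≫ g))
  let w : fib η V' := Over.homMk ū' (by
    show ū' ≫ h ≫ g = η
    rw [← Category.assoc, hū', hū, l.2])
  let H := IsPullback.of_hasPullback f g
  let H' := (IsPullback.of_hasPullback (h ≫ g) f).flip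
  let m := bcMap H H' h rfl
  let O := m ⁻¹ᵁ W
  haveI hOfin : IsFinite (O.ι ≫ pullback.fst (h ≫ g) f) := isFinite_preimage H H' h rfl W
  haveI : IsFinite O.ι := IsFinite.of_comp O.ι (pullback.fst (h ≫ g) f)
  have hOcl : IsClosed (O : Set (pullback (h ≫ g) f : Scheme.{u})) := by
    rw [← O.range_ι]; exact O.ι.isClosedMap.isClosed_range
  haveI : IsClosedImmersion O.ι :=
    IsClosedImmersion.of_isPreimmersion _ (by rw [O.range_ι]; exact hOcl)
  let A : O.toScheme ⟶ pullback p h := pullback.lift (m ∣_ W) (O.ι ≫ pullback.fst (h ≫ g) f) (by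
    show (m ∣_ W) ≫ W.ι ≫ _ = _
    rw [← Category.assoc, morphismRestrict_ι, Category.assoc, bcMap_snd, Category.assoc])
  let Bc : X.Etale := (EtCoh.bc f).obj V'
  let O' : Bc.left.Opens := O
  let τ : sub Bc O' ⟶ V := MorphismProperty.Over.homMk (A ≫ σ ≫ pullback.fst V.hom r) (by
    show (A ≫ σ ≫ pullback.fst V.hom r) ≫ V.hom = O.ι ≫ pullback.snd (h ≫ g) f
    rw [Category.assoc, Category.assoc, pullback.condition, ← Category.assoc σ, hσ,
      ← Category.assoc, pullback.lift_fst]
    show (m ∣_ W) ≫ W.ι ≫ _ = _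
    rw [← Category.assoc, morphismRestrict_ι, Category.assoc, bcMap_fst])
  let C : Bc.left.Opens := ⟨(O : Set (pullback (h ≫ g) f : Scheme.{u}))ᶜ, hOcl.isOpen_compl⟩
  let P : ULift.{u} Bool → Bc.left.Opens := fun b => if b.down then O' else C
  have hP : ∀ z, ∃! k, z ∈ P k := fun z => by
    by_cases hz : z ∈ O'
    · refine ⟨⟨true⟩, hz, ?_⟩
      rintro ⟨b⟩ hb
      cases b
      · exact absurd hz hb
      · rfl
    · refine ⟨⟨false⟩, hz, ?_⟩
      rintro ⟨b⟩ hb
      cases b
      · rfl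
      · exact absurd hb hz
  let vals : ∀ k, F.obj.obj (op (sub Bc (P k))) := fun k =>
    match k with
    | ⟨true⟩ => F.obj.map τ.op t
    | ⟨false⟩ => 0
  obtain ⟨s, hs, -⟩ := existsUnique_glue_parts F Bc P hP vals
  have hsupp : EtShriek.sectSupp F Bc s ⊆ (O' : Set Bc.left) := fun z hz => by
    by_contra hzO
    obtain ⟨v, hv⟩ : z ∈ Set.range C.ι := by rw [C.range_ι]; exact hzO
    exact hz (sub Bc C) (subHom Bc C) ⟨v, hv⟩ (hs ⟨false⟩)
  have hmem : s ∈ EtShriek.shriekSubgroup f F V' := by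
    refine (mem_shriekSubgroup_iff f F V' s).2 (ClSub24.isProperOver_subset (pullback.fst V'.hom f)
      hsupp (isClosed_sectSupp F _ _) ?_)
    haveI : IsProper (O.ι ≫ pullback.fst (h ≫ g) f) := inferInstance
    exact LimH13.isProperOver_of_isProper (pullback.fst (h ≫ g) f) O.ι O.range_ι
  refine ⟨germ η ((shFunctor f).obj F) w ⟨s, hmem⟩, funext fun l' => ?_⟩
  refine (phi_germ f η F w ⟨s, hmem⟩ l').trans ?_
  let φl : Spec (CommRingCat.of Ω) ⟶ pullback (h ≫ g) f := (liftAt f η w l').left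
  have hφf : φl ≫ pullback.fst (h ≫ g) f = ū' := pullback.lift_fst _ _ _
  have hφs : φl ≫ pullback.snd (h ≫ g) f = l'.1 := pullback.lift_snd _ _ _
  by_cases hl : l' = l
  · subst hl
    rw [Pi.single_eq_same]
    have hO : φl default ∈ O := by
      have := (inLift_preimage_iff H H' h rfl W ū' l'.1).2 (by rw [hū']; exact (hW _).2 rfl)
      obtain ⟨b, hb1, hb2, hb3⟩ := inLift_iff.1 this
      rw [← pt_eq_default]
      rwa [show φl = b from pullback.hom_ext (hφf.trans hb2.symm) (hφs.trans hb1.symm)]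
    obtain ⟨c, hc⟩ := ExtShriek24.exists_lift_opens O φl hO
    let z : fib l'.1 (sub Bc O') := Over.homMk c (by
      show c ≫ O.ι ≫ pullback.snd (h ≫ g) f = l'.1
      exact (Category.assoc _ _ _).symm.trans ((congrArg (· ≫ _) hc).trans hφs))
    have e1 : (Scheme.pointSmallEtale l'.1).fiber.map (subHom Bc O') z = liftAt f η w l' :=
      Over.OverMorphism.ext hc
    have hcA : (c ≫ A) ≫ pullback.snd p h = ū' := by
      rw [Category.assoc, pullback.lift_snd, ← Category.assoc, hc, hφf]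
    have e2 : (Scheme.pointSmallEtale l'.1).fiber.map τ z = y := by
      refine Over.OverMorphism.ext ?_
      show c ≫ A ≫ σ ≫ pullback.fst V.hom r = yl
      rw [← Category.assoc c, ← Category.assoc (c ≫ A), hσc _ hcA, pullback.lift_fst]
    show germ l'.1 F (liftAt f η w l') s = _
    rw [← e1, ← germ_map, show F.obj.map (subHom Bc O').op s = F.obj.map τ.op t from hs ⟨true⟩,
      germ_map, e2]
  · rw [Pi.single_eq_of_ne hl]
    by_contra hne
    have hO : φl default ∈ O := hsupp ((germ_ne_zero_mem f η F (liftAt f η w l') s).1 hne)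
    have := (inLift_preimage_iff H H' h rfl W ū' l'.1).1 (inLift_iff.2 ⟨φl, hφs, hφf, (pt_eq_default φl).symm ▸ hO⟩)
    rw [hū'] at this
    exact hl (Subtype.ext ((hW l'.1).1 this))

end Groth.Agent.EtShriek24
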