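import Groth.Agent.Lib.EtShriek24.Stalk
import Mathlib.CategoryTheory.Adjunction.AdjointFunctorTheorems
import Mathlib.CategoryTheory.Abelian.GrothendieckAxioms.Sheaf
import Mathlib.CategoryTheory.Limits.Preserves.Over
import Mathlib.Algebra.DirectSum.Basic

/-!
# The stalk of a direct image with proper support as a sum; colimits
-/

universe u w w'

set_option maxHeartbeats 800000

open CategoryTheory CategoryTheory.Limits AlgebraicGeometry Opposite
open Groth.Agent.EtStalk

namespace Groth.Agent.EtShriek24

variable {X Y : Scheme.{u}} (f : X ⟶ Y) [IsSeparated f] [LocallyOfFiniteType f] [LocallyQuasiFinite f]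
  {Ω : Type u} [Field Ω] [IsAlgClosed Ω] (η : Spec (CommRingCat.of Ω) ⟶ Y)

/-- The element supported at one point. -/
noncomputable def single (F : EtCoh.Ab X) (l : fLifts f η) :
    (EtCoh.stalk l.1).obj F ⟶ (EtCoh.stalk η).obj ((shFunctor f).obj F) :=
  open scoped Classical in
  AddCommGrpCat.ofHom (AddMonoidHom.mk' (fun q => (exists_single f η F l q).choose) fun q q' =>
    phi_injective f η F ((exists_single f η F l (q + q')).choose_spec.trans ((Pi.single_add _ _ _).trans
      (Eq.symm ((map_add (phi f η F) _ _).trans (congrArg₂ (· + ·) (exists_single f η F l q).choose_spec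
        (exists_single f η F l q').choose_spec))))))

open scoped Classical in
theorem phi_single (F : EtCoh.Ab X) (l : fLifts f η) (q : (EtCoh.stalk l.1).obj F) :
    phi f η F (single f η F l q) = Pi.single (M := fun l : fLifts f η => (EtCoh.stalk l.1).obj F) l q :=
  (exists_single f η F l q).choose_spec

theorem single_nat {F G : EtCoh.Ab X} (α : F ⟶ G) (l : fLifts f η) :
    (EtCoh.stalk l.1).map α ≫ single f η G l =
      single f η F l ≫ (EtCoh.stalk η).map ((shFunctor f).map α) := by
  classical
  refine AddCommGrpCat.ext fun q => phi_injective f η G (funext fun l' => ?_)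
  show phi f η G (single f η G l ((EtCoh.stalk l.1).map α q)) l' =
    phi f η G ((EtCoh.stalk η).map ((shFunctor f).map α) (single f η F l q)) l'
  rw [phi_nat, phi_single, phi_single]
  by_cases h : l' = l
  · subst h; rw [Pi.single_eq_same, Pi.single_eq_same]
  · rw [Pi.single_eq_of_ne h, Pi.single_eq_of_ne h, map_zero]

theorem bijective_desc_single (F : EtCoh.Ab X) :
    Function.Bijective (Sigma.desc (single f η F) :
      (∐ fun l : fLifts f η => (EtCoh.stalk l.1).obj F) ⟶ _) := by
  classical
  let A : fLifts f η → AddCommGrpCat.{u + 1} := fun p => (EtCoh.stalk p.1).obj F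
  let D : (∐ A) ⟶ (EtCoh.stalk η).obj ((shFunctor f).obj F) := Sigma.desc (single f η F)
  let inc : DirectSum (fLifts f η) (fun p => A p) →+ (∐ A : AddCommGrpCat.{u + 1}) :=
    DirectSum.toAddMonoid fun p => (Sigma.ι A p).hom
  let toD : (∐ A : AddCommGrpCat.{u + 1}) ⟶ AddCommGrpCat.of (DirectSum (fLifts f η) fun p => A p) :=
    Sigma.desc fun p => AddCommGrpCat.ofHom (DirectSum.of (fun p => A p) p)
  have hto : toD ≫ AddCommGrpCat.ofHom inc = 𝟙 _ := Sigma.hom_ext _ _ fun p => by
    rw [← Category.assoc, Sigma.ι_desc, Category.comp_id]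
    refine AddCommGrpCat.ext fun a => ?_
    show inc (DirectSum.of (fun p => A p) p a) = _
    exact DirectSum.toAddMonoid_of (fun p => (Sigma.ι A p).hom) p a
  have hι : ∀ p a, phi f η F (D (Sigma.ι A p a)) = Pi.single (M := fun p => A p) p a := fun p a => by
    refine Eq.trans (congrArg (phi f η F) ?_) (phi_single f η F p a)
    exact ConcreteCategory.congr_hom (Sigma.ι_desc (single f η F) p) a
  have hinc : ∀ d l, phi f η F (D (inc d)) l = d l := by
    intro d
    induction d using DirectSum.induction_on with
    | zero => simp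
    | of p a => intro l; rw [DirectSum.toAddMonoid_of]; exact (congrFun (hι p a) l).trans (by
        by_cases h : l = p
        · subst h; rw [Pi.single_eq_same, DirectSum.of_eq_same]
        · rw [Pi.single_eq_of_ne h, DirectSum.of_eq_of_ne _ _ _ h])
    | add d d' hd hd' => intro l; rw [map_add, map_add, map_add, Pi.add_apply, hd, hd', DirectSum.add_apply]
  refine ⟨(injective_iff_map_eq_zero D.hom).2 fun q hq => ?_, fun p => ?_⟩
  · have e : inc (toD q) = q := ConcreteCategory.congr_hom hto q
    rw [← e]
    have : toD q = 0 := DFinsupp.ext fun l => by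
      refine (hinc (toD q) l).symm.trans ?_
      rw [e, show D q = 0 from hq, map_zero]; rfl
    rw [this, map_zero]
  · refine ⟨inc (∑ l ∈ (phi_finite_support f η F p).toFinset,
      DirectSum.of (fun p => A p) l (phi f η F p l)), phi_injective f η F (funext fun l => ?_)⟩
    refine (hinc _ l).trans ?_
    refine (DFinsupp.finsetSum_apply _ _ _).trans ?_
    refine (Finset.sum_eq_single l (fun b _ hb => DirectSum.of_eq_of_ne _ _ _ hb.symm) fun h => ?_).trans
      (DirectSum.of_eq_same _ _)
    rw [Set.Finite.mem_toFinset, Set.mem_setOf_eq, not_not] at h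
    rw [DirectSum.of_eq_same]
    exact h

/-- The stalks at the points above a geometric point, as a functor to families. -/
noncomputable def fam : EtCoh.Ab X ⥤ Discrete (fLifts f η) ⥤ AddCommGrpCat.{u + 1} :=
  (Discrete.functor fun l : fLifts f η => EtCoh.stalk l.1).flip

/-- The stalk of a direct image with proper support is the sum of the stalks above. -/
noncomputable def stalkIso : fam f η ⋙ colim ≅ shFunctor f ⋙ EtCoh.stalk η :=
  NatIso.ofComponents
    (fun F =>
      (HasColimit.isoOfNatIso (Discrete.natIsoFunctor (F := (fam f η).obj F))) ≪≫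
        @asIso _ _ _ _ (Sigma.desc (single f η F))
          ((ConcreteCategory.isIso_iff_bijective _).2 (bijective_desc_single f η F)))
    (fun {F G} α => by
      refine colimit.hom_ext fun ⟨l⟩ => ?_
      have key : ∀ H, colimit.ι ((fam f η).obj H) ⟨l⟩ ≫
          (HasColimit.isoOfNatIso (Discrete.natIsoFunctor (F := (fam f η).obj H))).hom ≫
            Sigma.desc (single f η H) = single f η H l := fun H => by
        refine (HasColimit.isoOfNatIso_ι_hom_assoc _ _ _).trans ?_
        exact (Category.id_comp _).trans (Sigma.ι_desc (single f η H) l)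
      refine Eq.trans ?_ ((congrArg (· ≫ (EtCoh.stalk η).map ((shFunctor f).map α)) (key F)).symm.trans
        (Category.assoc _ _ _))
      refine (ι_colimMap_assoc _ _ _).trans ?_
      exact (congrArg (((fam f η).map α).app ⟨l⟩ ≫ ·) (key G)).trans (single_nat f η α l))

theorem preservesColimitsOfShape_stalk (J : Type w) [Category.{w'} J]
    [HasColimitsOfShape J AddCommGrpCat.{u + 1}]
    [∀ (ξ : Spec (CommRingCat.of Ω) ⟶ X), PreservesColimitsOfShape J (EtCoh.stalk ξ)] :
    PreservesColimitsOfShape J (shFunctor f ⋙ EtCoh.stalk η) := by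
  haveI : ∀ l : Discrete (fLifts f η),
      PreservesColimitsOfShape J (fam f η ⋙ (evaluation _ _).obj l) := fun l =>
    inferInstanceAs (PreservesColimitsOfShape J (EtCoh.stalk l.as.1))
  haveI : PreservesColimitsOfShape J (fam f η) :=
    preservesColimitsOfShape_of_evaluation _ J fun l => inferInstance
  exact preservesColimitsOfShape_of_natIso (stalkIso f η)

omit η in
theorem preservesColimitsOfShape_shFunctor (J : Type w) [Category.{w'} J]
    [HasColimitsOfShape J AddCommGrpCat.{u + 1}] [HasColimitsOfShape J (EtCoh.Ab X)]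
    [HasColimitsOfShape J (EtCoh.Ab Y)]
    [∀ (Z : Scheme.{u}) (K : Type u) [Field K] [IsAlgClosed K] (ξ : Spec (CommRingCat.of K) ⟶ Z),
      PreservesColimitsOfShape J (EtCoh.stalk ξ)] :
    PreservesColimitsOfShape J (shFunctor f) := by
  refine ⟨fun {K} => ?_⟩
  haveI : IsIso (colimit.post K (shFunctor f)) := by
    rw [isIso_iff_stalk_alg]
    intro Ω' _ _ ξ
    haveI := preservesColimitsOfShape_stalk f ξ J
    have h := colimit.post_post K (shFunctor f) (EtCoh.stalk ξ)
    haveI : IsIso (colimit.post (K ⋙ shFunctor f) (EtCoh.stalk ξ) ≫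
        (EtCoh.stalk ξ).map (colimit.post K (shFunctor f))) := by rw [h]; infer_instance
    exact (ConcreteCategory.isIso_iff_bijective _).1
      (IsIso.of_isIso_comp_left (colimit.post (K ⋙ shFunctor f) (EtCoh.stalk ξ)) _)
  exact preservesColimit_of_isIso_post (shFunctor f) K

omit η in
theorem preservesColimitsOfSize_lowerShriek :
    PreservesColimitsOfSize.{u + 1, u + 1} (EtShriek.lowerShriek f) := by
  refine ⟨fun {J} _ => ?_⟩
  haveI := preservesColimitsOfShape_shFunctor f J
  exact preservesColimitsOfShape_of_natIso (shIso f).symm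

omit η in
theorem isLeftAdjoint_lowerShriek : (EtShriek.lowerShriek f).IsLeftAdjoint := by
  haveI := preservesColimitsOfSize_lowerShriek f
  exact isLeftAdjoint_of_preservesColimits_of_isSeparating (isSeparator_separator (EtCoh.Ab X)) _

end Groth.Agent.EtShriek24
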