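import Groth.Prelude.Def_EtShriek2
import Groth.Agent.Lib.EtStalk.Agree
import Groth.Agent.Lib.ClSub24.Proper
import Groth.Agent.S1153
import Mathlib.CategoryTheory.Sites.Sheaf

/-!
# Sections with proper support form a sheaf
-/

universe u

set_option maxHeartbeats 800000

open CategoryTheory CategoryTheory.Limits AlgebraicGeometry Opposite
open Groth.Agent.EtStalk

namespace Groth.Agent.EtShriek24

variable {X Y : Scheme.{u}}

theorem sectSupp_eq (F : EtCoh.Ab X) (U : X.Etale) (s : EtCoh.sect F U) :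
    EtShriek.sectSupp F U s = (agree F s 0)ᶜ := by
  ext x
  constructor
  · rintro hx ⟨W, g, hw, he⟩
    exact hx W g hw (he.trans (map_zero _))
  · intro hx W g hw he
    exact hx ⟨W, g, hw, he.trans (map_zero _).symm⟩

theorem isClosed_sectSupp (F : EtCoh.Ab X) (U : X.Etale) (s : EtCoh.sect F U) :
    IsClosed (EtShriek.sectSupp F U s) := by
  rw [sectSupp_eq]; exact (isOpen_agree F s 0).isClosed_compl

theorem sectSupp_map (F : EtCoh.Ab X) {U U' : X.Etale} (g : U' ⟶ U) (s : EtCoh.sect F U) :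
    EtShriek.sectSupp F U' (F.obj.map g.op s) = g.left ⁻¹' EtShriek.sectSupp F U s := by
  rw [sectSupp_eq, sectSupp_eq]
  ext x
  have h := mem_agree_map F g s 0 x
  rw [map_zero] at h
  exact not_congr h

theorem sectSupp_zero (F : EtCoh.Ab X) (U : X.Etale) : EtShriek.sectSupp F U 0 = ∅ := by
  rw [sectSupp_eq, Set.compl_empty_iff]
  exact Set.eq_univ_of_forall fun x => agree_self F 0 x

theorem sectSupp_neg (F : EtCoh.Ab X) (U : X.Etale) (s : EtCoh.sect F U) :
    EtShriek.sectSupp F U (-s) = EtShriek.sectSupp F U s := by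
  rw [sectSupp_eq, sectSupp_eq]
  ext x
  refine not_congr ⟨?_, ?_⟩
  · rintro ⟨W, g, hw, he⟩
    refine ⟨W, g, hw, ?_⟩
    rw [map_zero, map_neg, neg_eq_zero] at he
    rw [map_zero]; exact he
  · rintro ⟨W, g, hw, he⟩
    refine ⟨W, g, hw, ?_⟩
    rw [map_zero, map_neg, neg_eq_zero]
    rw [map_zero] at he; exact he

theorem sectSupp_add (F : EtCoh.Ab X) (U : X.Etale) (s t : EtCoh.sect F U) :
    EtShriek.sectSupp F U (s + t) ⊆ EtShriek.sectSupp F U s ∪ EtShriek.sectSupp F U t := by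
  rw [sectSupp_eq, sectSupp_eq, sectSupp_eq, ← Set.compl_inter, Set.compl_subset_compl]
  rintro x ⟨hs, ht⟩
  obtain ⟨φ, hφ⟩ := exists_fib U x
  have hx : fibPt φ = x := hφ
  rw [← hx, mem_agree_iff_germ] at hs ht ⊢
  rw [map_add, hs, ht, map_zero, add_zero]

theorem isProperOver_empty {S W : Scheme.{u}} (f : W ⟶ S) [LocallyOfFiniteType f] :
    ClSub.IsProperOver f ∅ := by
  have := ClSub24.isProperOver_iUnion f (fun e : Empty => e.elim) (fun e => e.elim)
  rwa [Set.iUnion_of_empty] at this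

variable (f : X ⟶ Y) [LocallyOfFiniteType f] (F : EtCoh.Ab X)

theorem hasProperSupport_iff (V : Y.Etale) (s : EtCoh.sect F ((EtCoh.bc f).obj V)) :
    EtShriek.HasProperSupport F _ s (EtShriek.prV f V) ↔
      ClSub.IsProperOver (EtShriek.prV f V) (EtShriek.sectSupp F _ s) :=
  ⟨fun ⟨Z, hZ, hp⟩ => ClSub24.isProperOver_subset (pullback.fst V.hom f) hZ (isClosed_sectSupp F _ s) hp,
    fun h => ⟨_, le_rfl, h⟩⟩

/-- Proper support is hereditary. -/
theorem shriekPred_iff (V : Y.Etale) (s : EtCoh.sect F ((EtCoh.bc f).obj V)) :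
    EtShriek.ShriekPred f F V s ↔
      ClSub.IsProperOver (EtShriek.prV f V) (EtShriek.sectSupp F _ s) := by
  constructor
  · intro h
    have := h V (𝟙 V)
    rw [CategoryTheory.Functor.map_id, op_id, CategoryTheory.Functor.map_id] at this
    exact (hasProperSupport_iff f F V s).1 this
  · intro h V' φ
    rw [hasProperSupport_iff, sectSupp_map]
    exact ClSub24.isProperOver_preimage_of_isPullback (pullback.fst V.hom f)
      (EtCoh.isPullback_bc_map f φ) h

theorem shriekPred_add (V : Y.Etale) (s t : EtCoh.sect F ((EtCoh.bc f).obj V))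
    (hs : EtShriek.ShriekPred f F V s) (ht : EtShriek.ShriekPred f F V t) :
    EtShriek.ShriekPred f F V (s + t) := by
  rw [shriekPred_iff] at hs ht ⊢
  have hu := ClSub24.isProperOver_iUnion (pullback.fst V.hom f)
    (fun b : Bool => bif b then EtShriek.sectSupp F _ s else EtShriek.sectSupp F _ t)
    (fun b => by cases b <;> assumption)
  rw [← Set.union_eq_iUnion] at hu
  exact ClSub24.isProperOver_subset (pullback.fst V.hom f) (sectSupp_add F _ s t)
    (isClosed_sectSupp F _ _) hu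

theorem mem_shriekSubgroup_iff (V : Y.Etale) (s : EtCoh.sect F ((EtCoh.bc f).obj V)) :
    s ∈ EtShriek.shriekSubgroup f F V ↔
      ClSub.IsProperOver (EtShriek.prV f V) (EtShriek.sectSupp F _ s) := by
  rw [← shriekPred_iff]
  refine ⟨fun h => ?_, fun h => AddSubgroup.subset_closure h⟩
  induction h using AddSubgroup.closure_induction with
  | mem x hx => exact hx
  | zero => rw [shriekPred_iff, sectSupp_zero]; exact isProperOver_empty (pullback.fst V.hom f)
  | add x y _ _ hx hy => exact shriekPred_add f F V x y hx hy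
  | neg x _ hx => rw [shriekPred_iff] at hx ⊢; rwa [sectSupp_neg]

omit f F in
/-- Properness over the base is local for étale coverings. -/
theorem isProperOver_of_cover {W S : Scheme.{u}} (p : W ⟶ S) [LocallyOfFiniteType p] (Z : Set W)
    (hZ : IsClosed Z)
    (h : ∀ v : S, ∃ (A : Scheme.{u}) (k : A ⟶ S) (W' : Scheme.{u}) (k' : W' ⟶ W) (p' : W' ⟶ A),
      AlgebraicGeometry.Etale k ∧ v ∈ Set.range k ∧ IsPullback k' p' p k ∧
        ClSub.IsProperOver p' (k' ⁻¹' Z)) : ClSub.IsProperOver p Z := by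
  -- affine refinement
  have h' : ∀ v : S, ∃ (B : S.Opens) (A : Scheme.{u}) (g : A ⟶ B.toScheme), v ∈ B ∧
      QuasiCompact g ∧ Flat g ∧ Surjective g ∧
        ∃ (W' : Scheme.{u}) (k' : W' ⟶ W) (p' : W' ⟶ A),
          IsPullback k' p' p (g ≫ B.ι) ∧ ClSub.IsProperOver p' (k' ⁻¹' Z) := by
    intro v
    obtain ⟨A, k, W', k', p', hk, ⟨a, ha⟩, sq, hp⟩ := h v
    obtain ⟨B₀, hB₀, hvB₀, -⟩ := exists_isAffineOpen_mem_and_subset (U := (⊤ : S.Opens)) (x := v) trivial
    obtain ⟨A₀, hA₀, haA₀, hle⟩ := exists_isAffineOpen_mem_and_subset (U := k ⁻¹ᵁ B₀) (x := a)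
      (show k a ∈ B₀ by rw [ha]; exact hvB₀)
    haveI : IsAffine A₀.toScheme := hA₀
    let k₀ := A₀.ι ≫ k
    let B : S.Opens := ⟨Set.range k₀, k₀.isOpenMap.isOpen_range⟩
    have hBB₀ : B ≤ B₀ := by
      rintro _ ⟨x, rfl⟩
      exact (show k (A₀.ι x) ∈ B₀ from hle x.2)
    haveI : QuasiSeparatedSpace B.toScheme := by
      haveI : IsAffine B₀.toScheme := hB₀
      exact QuasiSeparatedSpace.of_isOpenEmbedding (S.homOfLE hBB₀).isOpenEmbedding
    let g : A₀.toScheme ⟶ B.toScheme := IsOpenImmersion.lift B.ι k₀ (by rw [B.range_ι]; exact le_rfl)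
    have hg : g ≫ B.ι = k₀ := IsOpenImmersion.lift_fac _ _ _
    haveI : AlgebraicGeometry.Etale (g ≫ B.ι) := by rw [hg]; infer_instance
    haveI : AlgebraicGeometry.Etale g := Etale.of_comp g B.ι
    refine ⟨B, A₀.toScheme, g, ⟨⟨a, haA₀⟩, ?_⟩, quasiCompact_of_compactSpace g, inferInstance, ⟨fun b => ?_⟩,
      pullback p' A₀.ι, pullback.fst p' A₀.ι ≫ k', pullback.snd p' A₀.ι, ?_, ?_⟩
    · show k (A₀.ι _) = v
      exact ha
    · obtain ⟨x, hx⟩ := b.2
      refine ⟨x, B.ι.isOpenEmbedding.injective ?_⟩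
      rw [← Scheme.Hom.comp_apply, hg, hx]
      rfl
    · rw [hg]
      exact (IsPullback.of_hasPullback p' A₀.ι).paste_horiz sq
    · haveI : LocallyOfFiniteType p' := MorphismProperty.of_isPullback (P := @LocallyOfFiniteType) sq ‹_›
      exact ClSub24.isProperOver_preimage_of_isPullback p' (IsPullback.of_hasPullback p' A₀.ι) hp
  choose B A g hvB hqc hfl hsj W' k' p' hsq hp using h'
  obtain ⟨T, i, hi, hr⟩ : ∃ (T : Scheme.{u}) (i : T ⟶ W), IsClosedImmersion i ∧ Set.range i = Z := by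
    refine ⟨_, (Scheme.IdealSheafData.vanishingIdeal ⟨Z, hZ⟩).subschemeι,
      inferInstanceAs (IsClosedImmersion (Scheme.IdealSheafData.subschemeι _)), ?_⟩
    rw [Scheme.IdealSheafData.range_subschemeι, Scheme.IdealSheafData.coe_support_vanishingIdeal]
    rfl
  suffices IsProper (i ≫ p) from LimH13.isProperOver_of_isProper p i hr
  refine IsZariskiLocalAtTarget.of_iSup_eq_top B
    (eq_top_iff.2 fun v _ => TopologicalSpace.Opens.mem_iSup.2 ⟨v, hvB v⟩) fun v => ?_
  haveI := hqc v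
  haveI := hfl v
  haveI := hsj v
  let q := p ∣_ B v
  have sqv : IsPullback (p ⁻¹ᵁ B v).ι q p (B v).ι := (isPullback_morphismRestrict p (B v)).flip
  let sqp := IsPullback.of_hasPullback q (g v)
  have sq2 : IsPullback (pullback.fst q (g v) ≫ (p ⁻¹ᵁ B v).ι) (pullback.snd q (g v)) p (g v ≫ (B v).ι) :=
    sqp.paste_horiz sqv
  let e := sq2.isoIsPullback _ _ (hsq v)
  have he : IsPullback e.hom (pullback.snd q (g v)) (p' v) (𝟙 _) :=
    IsPullback.of_horiz_isIso ⟨(IsPullback.isoIsPullback_hom_snd _ _ sq2 (hsq v)).trans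
      (Category.comp_id _).symm⟩
  haveI : LocallyOfFiniteType (p' v) :=
    MorphismProperty.of_isPullback (P := @LocallyOfFiniteType) (hsq v) ‹_›
  have h2 := ClSub24.isProperOver_preimage_of_isPullback (p' v) he (hp v)
  have hset : e.hom ⁻¹' (k' v ⁻¹' Z) = pullback.fst q (g v) ⁻¹' ((p ⁻¹ᵁ B v).ι ⁻¹' Z) := by
    ext z
    show k' v (e.hom z) ∈ Z ↔ _
    rw [← Scheme.Hom.comp_apply, IsPullback.isoIsPullback_hom_fst, Scheme.Hom.comp_apply]
    rfl
  rw [hset] at h2
  have h3 : ClSub.IsProperOver q ((p ⁻¹ᵁ B v).ι ⁻¹' Z) :=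
    Groth.Agent.S1153.result q _ (hZ.preimage (p ⁻¹ᵁ B v).ι.continuous) (g v) h2
  have sqi : IsPullback (pullback.fst (p ⁻¹ᵁ B v).ι i) (pullback.snd (p ⁻¹ᵁ B v).ι i) (p ⁻¹ᵁ B v).ι i :=
    IsPullback.of_hasPullback _ _
  have h4 : IsProper (pullback.fst (p ⁻¹ᵁ B v).ι i ≫ q) :=
    LimH13.isProper_of_isProperOver q (pullback.fst (p ⁻¹ᵁ B v).ι i)
      (by rw [Scheme.Pullback.range_fst, hr]) h3
  have sq3 : IsPullback (pullback.snd (p ⁻¹ᵁ B v).ι i) (pullback.fst (p ⁻¹ᵁ B v).ι i ≫ q) (i ≫ p) (B v).ι :=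
    sqi.flip.paste_vert sqv
  exact (MorphismProperty.arrow_mk_iso_iff @IsProper
    (Arrow.isoMk (f := Arrow.mk ((i ≫ p) ∣_ B v)) (g := Arrow.mk (pullback.fst (p ⁻¹ᵁ B v).ι i ≫ q))
      ((isPullback_morphismRestrict (i ≫ p) (B v)).flip.isoIsPullback _ _ sq3) (Iso.refl _)
      (by simp))).2 h4

/-- Sections with proper support form a sheaf. -/
theorem isSheaf_lowerShriekPre :
    Presheaf.IsSheaf Y.smallEtaleTopology (EtShriek.lowerShriekPre f F) := by
  rw [Presheaf.isSheaf_iff_isSheaf_forget (s := forget AddCommGrpCat.{u + 1}), isSheaf_iff_isSheaf_of_type]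
  intro V S hS x hx
  have hP := ((EtCoh.push f).obj F).property
  rw [Presheaf.isSheaf_iff_isSheaf_forget (s := forget AddCommGrpCat.{u + 1}), isSheaf_iff_isSheaf_of_type] at hP
  let y : Presieve.FamilyOfElements (((EtCoh.push f).obj F).obj ⋙ forget AddCommGrpCat.{u + 1}) S.arrows :=
    fun V' φ hφ => (x φ hφ).1
  have hy : y.Compatible := fun V₁ V₂ W g₁ g₂ f₁ f₂ h₁ h₂ e => congrArg Subtype.val (hx g₁ g₂ h₁ h₂ e)
  obtain ⟨s, hs, huniq⟩ := hP S hS y hy
  have hmem : s ∈ EtShriek.shriekSubgroup f F V := by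
    refine (mem_shriekSubgroup_iff f F V s).2 ?_
    refine isProperOver_of_cover (pullback.fst V.hom f) _ (isClosed_sectSupp F _ _) fun v => ?_
    rw [EtSite.mem_et_iff] at hS
    obtain ⟨V', φ, w, hφ, hw⟩ := hS v
    refine ⟨V'.left, φ.left, _, ((EtCoh.bc f).map φ).left, EtShriek.prV f V', etale_left φ, ⟨w, hw⟩,
      EtCoh.isPullback_bc_map f φ, ?_⟩
    have h := (mem_shriekSubgroup_iff f F V' _).1 (x φ hφ).2
    refine Eq.mp (congrArg (ClSub.IsProperOver (EtShriek.prV f V'))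
      (sectSupp_map F ((EtCoh.bc f).map φ) s)) ?_
    exact Eq.mp (congrArg (fun t => ClSub.IsProperOver (EtShriek.prV f V') (EtShriek.sectSupp F _ t))
      (hs φ hφ : _ = (x φ hφ).1).symm) h
  refine ⟨⟨s, hmem⟩, fun V' φ hφ => Subtype.ext (hs φ hφ), fun t ht => Subtype.ext ?_⟩
  exact huniq t.1 fun V' φ hφ => congrArg Subtype.val (ht φ hφ)

end Groth.Agent.EtShriek24
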